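import Groth.Agent.HomRepLib.DiagHom
import Groth.Agent.HomRepLib.Split
import Mathlib.LinearAlgebra.Dimension.Free
import Mathlib.LinearAlgebra.FreeModule.StrongRankCondition

/-!
# Homomorphisms of diagonalisable groups

Locally they are induced by a unique homomorphism of character groups, which is surjective for a monomorphism.
-/

universe u

open CategoryTheory CategoryTheory.Limits MonoidalCategory CartesianMonoidalCategory MonObj GrpObj AlgebraicGeometry
open Groth.Agent.HomRepLib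

namespace Groth.Agent.TorusQI

set_option backward.isDefEq.respectTransparency.types false

variable {S : Scheme.{u}} {M N P : Type} [AddCommGroup M] [AddCommGroup N] [AddCommGroup P]

theorem DSmap_comp (φ : N →+ M) (ψ : P →+ N) : Red.DSmap S φ ≫ Red.DSmap S ψ = Red.DSmap S (φ.comp ψ) :=
  ev_ext fun p => by
    rw [← Category.id_comp (Red.DSmap S φ ≫ Red.DSmap S ψ), ← Category.assoc, ev_DSmap, ev_DSmap,
      ← Category.id_comp (Red.DSmap S (φ.comp ψ)), ev_DSmap]
    rfl

theorem DSmap_id : Red.DSmap S (AddMonoidHom.id M) = 𝟙 _ :=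
  ev_ext fun m => by
    rw [← Category.id_comp (Red.DSmap S (AddMonoidHom.id M)), ev_DSmap]
    rfl

theorem isIso_DSmap (ψ : N →+ M) (h : Function.Bijective ψ) : IsIso (Red.DSmap S ψ) := by
  let e : N ≃+ M := AddEquiv.ofBijective ψ h
  refine ⟨Red.DSmap S e.symm.toAddMonoidHom, ?_, ?_⟩
  · rw [DSmap_comp, ← DSmap_id]
    congr 1
    ext m
    exact e.apply_symm_apply m
  · rw [DSmap_comp, ← DSmap_id]
    congr 1
    ext n
    exact e.symm_apply_apply n

/-- Different homomorphisms of character groups induce different homomorphisms. -/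
theorem DSmap_injective [Nonempty S] {ψ ψ' : N →+ M} (h : Red.DSmap S ψ = Red.DSmap S ψ') : ψ = ψ' := by
  obtain ⟨y⟩ := ‹Nonempty S›
  refine isInducedOn_unique (T := 𝟙_ (Over S)) (fst (Red.DS S M) (𝟙_ (Over S)) ≫ Red.DSmap S ψ) (y := y)
    (fun X x t _ => ?_) (fun X x t _ => ?_) (Set.mem_univ y) (Set.mem_univ y)
  · rw [lift_fst_assoc]
  · rw [lift_fst_assoc, h]

/-- A homomorphism between diagonalisable groups is locally induced by a homomorphism of character groups. -/
theorem exists_induced [AddGroup.FG N] (f : Red.DS S M ⟶ Red.DS S N) [IsMonHom f] (y : S) :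
    ∃ (ψ : N →+ M) (V : S.Opens), y ∈ V ∧ ∀ (X : Over S) (x : X ⟶ Red.DS S M),
      Set.range X.hom ⊆ (V : Set S) → x ≫ f = x ≫ Red.DSmap S ψ := by
  have hφ : AutFam.IsHomFamily (Red.DS S M) (Red.DS S N) (fst (Red.DS S M) (𝟙_ (Over S)) ≫ f) := by
    intro X g₁ g₂ t
    simp only [lift_fst_assoc]
    exact MonObj.mul_comp g₁ g₂ f
  obtain ⟨ψ, V, hy, hV⟩ := exists_isInducedOn (T := 𝟙_ (Over S)) _ hφ y
  refine ⟨ψ, V, hy, fun X x hX => ?_⟩
  have ht : (toUnit X).left = X.hom := (Category.comp_id _).symm.trans (Over.w (toUnit X))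
  have h := hV X x (toUnit X) (by rw [ht]; exact hX)
  rwa [lift_fst_assoc] at h

/-- A monomorphism between diagonalisable groups over a base with at most one point is induced by a surjection. -/
theorem exists_surjective_of_mono [AddGroup.FG N] [Nonempty S] [Subsingleton S] (f : Red.DS S M ⟶ Red.DS S N)
    [IsMonHom f] [Mono f] : ∃ ψ : N →+ M, Function.Surjective ψ ∧ f = Red.DSmap S ψ := by
  obtain ⟨y⟩ := ‹Nonempty S›
  obtain ⟨ψ, V, hy, hV⟩ := exists_induced f y
  have hf : f = Red.DSmap S ψ := by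
    have h := hV _ (𝟙 (Red.DS S M)) (fun z _ => (Subsingleton.elim y z) ▸ hy)
    simpa using h
  refine ⟨ψ, ?_, hf⟩
  let π : M →+ M ⧸ ψ.range := QuotientAddGroup.mk' ψ.range
  have hπ : π = 0 := by
    haveI : Nonempty S := ⟨y⟩
    refine DSmap_injective (S := S) ?_
    rw [← cancel_mono f, hf, DSmap_comp, DSmap_comp]
    congr 1
    ext n
    simp [π]
  intro m
  have hm : π m = 0 := by rw [hπ]; rfl
  exact (QuotientAddGroup.eq_zero_iff m).1 hm

theorem injective_of_surjective_of_rank {r : ℕ} (ψ : (Fin r → ℤ) →+ (Fin r → ℤ)) (h : Function.Surjective ψ) :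
    Function.Injective ψ :=
  OrzechProperty.injective_of_surjective_endomorphism ψ.toIntLinearMap h

/-- A monomorphism of split tori of the same rank over a point is an isomorphism. -/
theorem isIso_of_mono_split [Nonempty S] [Subsingleton S] {H Q : Over S} [GrpObj H] [GrpObj Q] {r : ℕ}
    (hH : Red.IsSplitTorusWith (Fin r → ℤ) H) (hQ : Red.IsSplitTorusWith (Fin r → ℤ) Q) (f : H ⟶ Q)
    [IsMonHom f] [Mono f] : IsIso f := by
  obtain ⟨e⟩ := hH
  obtain ⟨e'⟩ := hQ
  let a : Red.DS S (Fin r → ℤ) ⟶ H := e.inv.hom.hom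
  let b : Q ⟶ Red.DS S (Fin r → ℤ) := e'.hom.hom.hom
  haveI : IsMonHom a := e.inv.hom.isMonHom_hom
  haveI : IsMonHom b := e'.hom.hom.isMonHom_hom
  haveI : IsIso a := ⟨e.hom.hom.hom, congrArg (fun k => k.hom.hom) e.inv_hom_id,
    congrArg (fun k => k.hom.hom) e.hom_inv_id⟩
  haveI : IsIso b := ⟨e'.inv.hom.hom, congrArg (fun k => k.hom.hom) e'.hom_inv_id,
    congrArg (fun k => k.hom.hom) e'.inv_hom_id⟩
  obtain ⟨ψ, hψ, hf⟩ := exists_surjective_of_mono (a ≫ f ≫ b)
  haveI := isIso_DSmap (S := S) ψ ⟨injective_of_surjective_of_rank ψ hψ, hψ⟩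
  have hf' : f = inv a ≫ Red.DSmap S ψ ≫ inv b := by rw [← hf]; simp
  rw [hf']
  infer_instance

end Groth.Agent.TorusQI
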