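import Groth.Agent.MultTypeQI.Flat
import Groth.Prelude.Def_Red
import Mathlib.GroupTheory.Finiteness
import Mathlib.LinearAlgebra.FreeModule.Basic
import Mathlib.RingTheory.Finiteness.Basic

/-! Tori are groups of multiplicative type and of finite type. -/

universe u

open CategoryTheory AlgebraicGeometry

namespace Groth.Agent.TorusQI

theorem isMultTypeFT_of_isTorus {S : Scheme.{u}} {T : Over S} [GrpObj T] (hT : Red.IsTorus T) :
    SGA3x.IsMultTypeFT T := by
  obtain ⟨S', f, hf, hs, hqc, hloc⟩ := hT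
  refine ⟨S', f, hf, hs, hqc, fun s => ?_⟩
  obtain ⟨U, hU, r, he⟩ := hloc s
  exact ⟨U, hU, Fin r → ℤ, inferInstance, Module.Finite.iff_addGroup_fg.1 inferInstance, he⟩

end Groth.Agent.TorusQI
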