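import Groth.Agent.TorusQI.FibreIso
import Groth.Agent.TorusQI.Split
import Groth.Agent.TorusQI.Torus
import Groth.Agent.MultTypeQI.EtaleLocal
import Groth.Agent.HomRepLib.Apply
import Mathlib.AlgebraicGeometry.AlgClosed.Basic

/-!
# Geometric fibres of tori

Over an algebraically closed field a group of multiplicative type is diagonalisable and a torus is split.
-/

universe u

open CategoryTheory CategoryTheory.Limits MonoidalCategory CartesianMonoidalCategory MonObj GrpObj AlgebraicGeometry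
open Groth.Agent.GrpSchLib

namespace Groth.Agent.TorusQI

set_option backward.isDefEq.respectTransparency.types false

variable {S : Scheme.{u}}

theorem isMultTypeFT_DS (M : Type) [AddCommGroup M] [AddGroup.FG M] : SGA3x.IsMultTypeFT (Red.DS S M) := by
  refine ⟨S, 𝟙 S, inferInstance, inferInstance, fun V hV => ⟨V, hV.isCompact, ?_⟩, fun s =>
    ⟨⊤, trivial, M, inferInstance, ‹_›, MultTypeBC.bc_DS _ M⟩⟩
  simp

/-- Over an algebraically closed field a group of multiplicative type is diagonalisable. -/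
theorem exists_diag_geom {H : Over S} [GrpObj H] (hH : SGA3x.IsMultTypeFT H) {Ω : Type u} [Field Ω] [IsAlgClosed Ω]
    (b : Spec (CommRingCat.of Ω) ⟶ S) :
    ∃ (M : Type) (_ : AddCommGroup M), AddGroup.FG M ∧
      Nonempty (Grp.mk (Red.bc b H) ≅ Grp.mk (Red.DS (Spec (CommRingCat.of Ω)) M)) := by
  obtain ⟨W, f, hf, ⟨w, hw⟩, M, iM, hM, ⟨e⟩⟩ := MultTypeQI.etale_locally_diag hH (b (IsLocalRing.closedPoint Ω))
  let g := pullback.snd f b
  haveI : LocallyOfFiniteType g := MorphismProperty.pullback_snd (P := @LocallyOfFiniteType) f b inferInstance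
  obtain ⟨z, -, -⟩ := Scheme.Pullback.exists_preimage_pullback (f := f) (g := b) w (IsLocalRing.closedPoint Ω) hw
  haveI : JacobsonSpace (Spec (CommRingCat.of Ω)) := inferInstanceAs (JacobsonSpace (PrimeSpectrum Ω))
  haveI : JacobsonSpace ↥(pullback f b) := LocallyOfFiniteType.jacobsonSpace g
  obtain ⟨c, -, hc⟩ := nonempty_inter_closedPoints (Z := (Set.univ : Set ↥(pullback f b))) ⟨z, trivial⟩
    isClosed_univ.isLocallyClosed
  obtain ⟨⟨σ, hσ⟩, -⟩ := (pointEquivClosedPoint g).surjective ⟨c, hc⟩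
  obtain ⟨e₁⟩ := HomRepLib.diag_bc (σ ≫ pullback.fst f b) e
  obtain ⟨e₂⟩ := MultTypeBC.bc_congr (show (σ ≫ pullback.fst f b) ≫ f = b by
    rw [Category.assoc, pullback.condition, ← Category.assoc, hσ, Category.id_comp]) H
  exact ⟨M, iM, hM, ⟨e₂.symm ≪≫ e₁⟩⟩

/-- An isomorphism of groups between diagonalisable groups over a point comes from an isomorphism of the character
groups. -/
theorem nonempty_addEquiv {M N : Type} [AddCommGroup M] [AddCommGroup N] [AddGroup.FG M] [AddGroup.FG N]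
    [Nonempty S] [Subsingleton S] (e : Grp.mk (Red.DS S M) ≅ Grp.mk (Red.DS S N)) : Nonempty (M ≃+ N) := by
  let f : Red.DS S M ⟶ Red.DS S N := e.hom.hom.hom
  let g : Red.DS S N ⟶ Red.DS S M := e.inv.hom.hom
  haveI : IsMonHom f := e.hom.hom.isMonHom_hom
  haveI : IsMonHom g := e.inv.hom.isMonHom_hom
  have hfg : f ≫ g = 𝟙 _ := congrArg (fun k => k.hom.hom) e.hom_inv_id
  have hgf : g ≫ f = 𝟙 _ := congrArg (fun k => k.hom.hom) e.inv_hom_id
  haveI : IsIso f := ⟨g, hfg, hgf⟩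
  haveI : IsIso g := ⟨f, hgf, hfg⟩
  obtain ⟨ψ, -, hψ⟩ := exists_surjective_of_mono f
  obtain ⟨φ, -, hφ⟩ := exists_surjective_of_mono g
  refine ⟨AddMonoidHom.toAddEquiv φ ψ ?_ ?_⟩ <;> refine DSmap_injective (S := S) ?_
  · rw [← DSmap_comp, ← hψ, ← hφ, hfg, DSmap_id]
  · rw [← DSmap_comp, ← hψ, ← hφ, hgf, DSmap_id]

/-- Over an algebraically closed field a torus is split. -/
theorem exists_split_geom {T : Over S} [GrpObj T] (hT : Red.IsTorus T) {Ω : Type u} [Field Ω] [IsAlgClosed Ω]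
    (b : Spec (CommRingCat.of Ω) ⟶ S) : ∃ r : ℕ, Red.IsSplitTorusWith (Fin r → ℤ) (Red.bc b T) := by
  obtain ⟨M, iM, hM, ⟨e⟩⟩ := exists_diag_geom (isMultTypeFT_of_isTorus hT) b
  obtain ⟨S', f, -, hf, -, hloc⟩ := hT
  obtain ⟨s', hs'⟩ := f.surjective (b (IsLocalRing.closedPoint Ω))
  obtain ⟨U, hU, r, ⟨eU⟩⟩ := hloc s'
  obtain ⟨z, -, -⟩ := Scheme.Pullback.exists_preimage_pullback (f := U.ι ≫ f) (g := b) (⟨s', hU⟩ : U)
    (IsLocalRing.closedPoint Ω) hs'
  let p := (pullback (U.ι ≫ f) b).fromSpecResidueField z ≫ pullback.fst (U.ι ≫ f) b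
  let q := (pullback (U.ι ≫ f) b).fromSpecResidueField z ≫ pullback.snd (U.ι ≫ f) b
  obtain ⟨e₁⟩ := HomRepLib.diag_bc q e
  obtain ⟨e₂⟩ := HomRepLib.diag_bc p eU
  obtain ⟨e₃⟩ := MultTypeBC.bc_congr (show q ≫ b = p ≫ U.ι ≫ f by
    simp only [p, q, Category.assoc, pullback.condition]) T
  haveI : Subsingleton ↥(Spec ((pullback (U.ι ≫ f) b).residueField z)) :=
    inferInstanceAs (Subsingleton (PrimeSpectrum ((pullback (U.ι ≫ f) b).residueField z)))
  haveI : Nonempty ↥(Spec ((pullback (U.ι ≫ f) b).residueField z)) :=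
    inferInstanceAs (Nonempty (PrimeSpectrum ((pullback (U.ι ≫ f) b).residueField z)))
  haveI : AddGroup.FG (Fin r → ℤ) := Module.Finite.iff_addGroup_fg.1 inferInstance
  obtain ⟨φ⟩ := nonempty_addEquiv (e₁.symm ≪≫ e₃ ≪≫ e₂)
  let d : Red.DS (Spec (CommRingCat.of Ω)) M ⟶ Red.DS (Spec (CommRingCat.of Ω)) (Fin r → ℤ) :=
    Red.DSmap _ φ.symm.toAddMonoidHom
  haveI : IsMonHom d := S5427.isMonHom_DSmap _ _
  haveI : IsIso d := isIso_DSmap _ φ.symm.bijective
  exact ⟨r, ⟨e ≪≫ Grp.mkIso (asIso d) (IsMonHom.one_hom d) (IsMonHom.mul_hom d)⟩⟩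

end Groth.Agent.TorusQI
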