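import Groth.Agent.TorusQI.Character
import Groth.Agent.GrpSchLib.SubschemeDescent
import Groth.Agent.GrpSchLib.MonoSubgroup
import Groth.Agent.HomRepLib.Fpqc

/-!
# Points killed by the characters of finite order

A family of characters of finite order of a torus is trivial; so every torus mapping to a group lands in the
subfunctor of points killed by all characters of finite order.
-/

universe u

open CategoryTheory CategoryTheory.Limits MonoidalCategory CartesianMonoidalCategory MonObj GrpObj AlgebraicGeometry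
open Groth.Agent.HomRepLib Groth.Agent.DSPtsLib Groth.Agent.GrpSchLib

namespace Groth.Agent.TorusQI

set_option backward.isDefEq.respectTransparency.types false
set_option maxHeartbeats 400000

variable {S : Scheme.{u}}

theorem whiskerLeft_inc_eq {R Y : Over S} (O : Y.left.Opens) (l : piece (R ⊗ Y) ((snd R Y).left ⁻¹ᵁ O) ⟶ piece Y O)
    (hl : l ≫ inc Y O = inc _ _ ≫ snd R Y) :
    inc (R ⊗ Y) ((snd R Y).left ⁻¹ᵁ O) = lift (inc _ _ ≫ fst R Y) l ≫ (R ◁ inc Y O) := by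
  rw [lift_whiskerLeft, hl, lift_comp_fst_snd]

/-- A family on `R ⊗ Y` is trivial if it is so over the pieces of an open covering of `Y`. -/
theorem family_eq_one_of_pieces {R G Y : Over S} [GrpObj G] {κ : Type*} (O : κ → Y.left.Opens)
    (hO : ∀ y, ∃ k, y ∈ O k) {φ : R ⊗ Y ⟶ G} (h : ∀ k, (R ◁ inc Y (O k)) ≫ φ = 1) : φ = 1 := by
  refine hom_ext_pieces (fun k => (snd R Y).left ⁻¹ᵁ O k) (fun z => hO _) fun k => ?_
  obtain ⟨l, hl⟩ := exists_fac_inc (O k) (inc (R ⊗ Y) ((snd R Y).left ⁻¹ᵁ O k) ≫ snd R Y) (by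
    rintro _ ⟨z, rfl⟩
    exact z.2)
  rw [whiskerLeft_inc_eq (O k) l hl, Category.assoc, h, MonObj.comp_one, MonObj.comp_one]

theorem comp_npow {X Y G : Over S} [GrpObj G] (g : X ⟶ Y) (a : Y ⟶ G) (n : ℕ) : g ≫ (a ^ n) = (g ≫ a) ^ n := by
  induction n with
  | zero => rw [pow_zero, pow_zero, MonObj.comp_one]
  | succ n ih => rw [pow_succ, pow_succ, MonObj.comp_mul, ih]

theorem npow_comp {X G G' : Over S} [GrpObj G] [GrpObj G'] (a : X ⟶ G) (c : G ⟶ G') [IsMonHom c] (n : ℕ) :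
    (a ^ n) ≫ c = (a ≫ c) ^ n := by
  induction n with
  | zero => rw [pow_zero, pow_zero]; exact MonObj.one_comp c
  | succ n ih => rw [pow_succ, pow_succ, ← ih]; exact MonObj.mul_comp _ _ c

theorem eq_one_of_mul_self {G : Type*} [Group G] {a : G} (h : a * a = a) : a = 1 := mul_eq_left.mp h

theorem eq_one_of_mul_eq_one {G : Type*} [Group G] {a b : G} (h : a * b = 1) (hb : b = 1) : a = 1 := by
  rwa [hb, _root_.mul_one] at h

theorem one_mul_one_pt {X G : Over S} [GrpObj G] : (1 : X ⟶ G) * 1 = 1 := _root_.mul_one 1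

theorem ev_pow {M : Type} [AddCommGroup M] {X : Over S} (x : X ⟶ Red.DS S M) (m : M) (k : ℕ) :
    ev (x ^ k) m = ev x (k • m) := by
  induction k with
  | zero => rw [pow_zero, ev_one, zero_nsmul, ev_zero]
  | succ k ih => rw [pow_succ, succ_nsmul, ev_mul, ev_add, ih]

/-- A family of characters of finite order of a split torus is trivial. -/
theorem family_eq_one_split {R : Over S} [GrpObj R] {r : ℕ} (hR : Red.IsSplitTorusWith (Fin r → ℤ) R) {Y : Over S}
    (φ : R ⊗ Y ⟶ Red.Gm S) (hφ : AutFam.IsHomFamily R (Red.Gm S) φ) {n : ℕ} (hn : n ≠ 0) (h : φ ^ n = 1) :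
    φ = 1 := by
  obtain ⟨e⟩ := hR
  let a : Red.DS S (Fin r → ℤ) ⟶ R := e.inv.hom.hom
  haveI : IsMonHom a := e.inv.hom.isMonHom_hom
  haveI : IsIso a := ⟨e.hom.hom.hom, congrArg (fun k => k.hom.hom) e.inv_hom_id,
    congrArg (fun k => k.hom.hom) e.hom_inv_id⟩
  haveI : AddGroup.FG ℤ := Module.Finite.iff_addGroup_fg.1 inferInstance
  let φ' : Red.DS S (Fin r → ℤ) ⊗ Y ⟶ Red.Gm S := (a ▷ Y) ≫ φ
  have hφ' : AutFam.IsHomFamily (Red.DS S (Fin r → ℤ)) (Red.Gm S) φ' := fun X g₁ g₂ t => by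
    simp only [φ', lift_whiskerRight_assoc]
    rw [MonObj.mul_comp, hφ]
  have h1 : φ' = 1 := by
    choose χ W hW hind using fun y : Y.left => exists_isInducedOn φ' hφ' y
    refine family_eq_one_of_pieces W (fun y => ⟨y, hW y⟩) fun y => ?_
    have hχ : χ y = 0 := by
      have hu : n • χ y = 0 := by
        refine isInducedOn_unique (φ' ^ n) (y := y) (fun X x t ht => ?_) (fun X x t _ => ?_) (hW y) (hW y)
        · rw [comp_npow, hind y X x t ht]
          exact ev_ext fun m => by rw [ev_pow, ev_DSmap, ev_DSmap, AddMonoidHom.nsmul_apply, map_nsmul]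
        · rw [DSmap_zero, MonObj.comp_one, show φ' ^ n = 1 from ?_, MonObj.comp_one]
          show ((a ▷ Y) ≫ φ) ^ n = 1
          rw [← comp_npow, h, MonObj.comp_one]
      refine AddMonoidHom.ext fun m => ?_
      exact (smul_eq_zero.1 (show n • χ y m = 0 from DFunLike.congr_fun hu m)).resolve_left hn
    have e1 : (Red.DS S (Fin r → ℤ) ◁ inc Y (W y)) =
        lift (fst (Red.DS S (Fin r → ℤ)) (piece Y (W y))) (snd _ _ ≫ inc Y (W y)) :=
      CartesianMonoidalCategory.hom_ext _ _ (by simp) (by simp)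
    rw [e1, hind y _ _ _ (by
      rintro _ ⟨z, rfl⟩
      rw [Over.comp_left, Scheme.Hom.comp_apply]
      exact range_inc Y (W y) ⟨_, rfl⟩), hχ, DSmap_zero, MonObj.comp_one]
  rw [← cancel_epi (a ▷ Y), MonObj.comp_one]
  exact h1

/-- A family of characters of finite order of a torus is trivial. -/
theorem family_eq_one {R : Over S} [GrpObj R] (hR : Red.IsTorus R) {Y : Over S} (φ : R ⊗ Y ⟶ Red.Gm S)
    (hφ : AutFam.IsHomFamily R (Red.Gm S) φ) {n : ℕ} (hn : n ≠ 0) (h : φ ^ n = 1) : φ = 1 := by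
  obtain ⟨S', f, hflat, hsurj, hqc, hloc⟩ := hR
  have hcov : FpqcDescLib.Covers f := FpqcDescLib.covers_of_isCovering (FpqcDescLib.isCovering_of_flat f hqc)
  let P : Over S := Over.mk (pullback.fst Y.hom f ≫ Y.hom)
  let p : P ⟶ Y := Over.homMk (pullback.fst Y.hom f) rfl
  have hp : FpqcDescLib.Covers p.left := hcov.pullback Y.hom _ _ (IsPullback.of_hasPullback Y.hom f)
  haveI := (HomRepLib.covers_whiskerLeft R hp).over_epi
  rw [← cancel_epi (R ◁ p), MonObj.comp_one]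
  choose U hU r hsplit using hloc
  refine family_eq_one_of_pieces (fun s : S' => pullback.snd Y.hom f ⁻¹ᵁ U s) (fun z => ⟨_, hU _⟩) fun s => ?_
  let O : P.left.Opens := pullback.snd Y.hom f ⁻¹ᵁ U s
  let g : (U s : Scheme.{u}) ⟶ S := (U s).ι ≫ f
  let Y' : Over (U s : Scheme.{u}) := Over.mk (pullback.snd Y.hom f ∣_ U s)
  let ε : (Over.map g).obj Y' ≅ piece P O := Over.isoMk (Iso.refl _) (by
    show 𝟙 _ ≫ O.ι ≫ pullback.fst Y.hom f ≫ Y.hom = (pullback.snd Y.hom f ∣_ U s) ≫ (U s).ι ≫ f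
    rw [Category.id_comp, pullback.condition, morphismRestrict_ι_assoc])
  obtain ⟨c⟩ := MultTypeBC.bc_DS g ℤ
  let cm : Red.bc g (Red.Gm S) ⟶ Red.DS (U s : Scheme.{u}) ℤ := c.hom.hom.hom
  haveI : IsMonHom cm := c.hom.hom.isMonHom_hom
  haveI : IsIso cm := ⟨c.inv.hom.hom, congrArg (fun k => k.hom.hom) c.hom_inv_id,
    congrArg (fun k => k.hom.hom) c.inv_hom_id⟩
  let φ₀ : R ⊗ (Over.map g).obj Y' ⟶ Red.Gm S := (R ◁ ε.hom) ≫ (R ◁ inc P O) ≫ (R ◁ p) ≫ φ
  have hone : toBc g (1 : R ⊗ (Over.map g).obj Y' ⟶ Red.Gm S) = 1 := by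
    exact eq_one_of_mul_self (G := Red.bc g R ⊗ Y' ⟶ Red.bc g (Red.Gm S))
      ((toBc_mul g (1 : R ⊗ (Over.map g).obj Y' ⟶ Red.Gm S) 1).symm.trans (congrArg (toBc g) one_mul_one_pt))
  have hpow : ∀ k : ℕ, toBc g (φ₀ ^ k) = toBc g φ₀ ^ k := fun k => by
    induction k with
    | zero => rw [pow_zero, pow_zero, hone]
    | succ k ih => rw [pow_succ, pow_succ, toBc_mul, ih]
  have h1 : toBc g φ₀ ≫ cm = 1 := by
    refine family_eq_one_split (hsplit s) _ (fun X g₁ g₂ t => ?_) hn ?_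
    · have h0 := (isHomFamily_toBc g φ₀).2 (isHomFamily_comp (isHomFamily_comp (isHomFamily_comp hφ p) _) _) X g₁ g₂ t
      rw [← Category.assoc, h0]
      exact (MonObj.mul_comp _ _ cm).trans (by simp only [Category.assoc])
    · have hc1 : (1 : Red.bc g R ⊗ Y' ⟶ Red.bc g (Red.Gm S)) ≫ cm = 1 := MonObj.one_comp cm
      rw [← npow_comp _ cm, ← hpow]
      have : φ₀ ^ n = 1 := by
        show ((R ◁ ε.hom) ≫ (R ◁ inc P O) ≫ (R ◁ p) ≫ φ) ^ n = 1
        rw [← comp_npow, ← comp_npow, ← comp_npow, h, MonObj.comp_one, MonObj.comp_one, MonObj.comp_one]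
      rw [this, hone]
      exact hc1
  have h2 : toBc g φ₀ = 1 := by
    rw [← cancel_mono cm, h1]
    exact (MonObj.one_comp cm).symm
  have h3 : φ₀ = 1 := (toBc_bijective g).injective (h2.trans hone.symm)
  rw [← cancel_epi (R ◁ ε.hom), MonObj.comp_one]
  exact h3

variable {H : Over S} [GrpObj H]

/-- A point killed by every family of characters of finite order. -/
def Killed {Y : Over S} (h : Y ⟶ H) : Prop :=
  ∀ (Y' : Over S) (q : Y' ⟶ Y) (χ : H ⊗ Y' ⟶ Red.Gm S), AutFam.IsHomFamily H (Red.Gm S) χ → ∀ n : ℕ, n ≠ 0 →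
    χ ^ n = 1 → lift (q ≫ h) (𝟙 Y') ≫ χ = 1

theorem Killed.comp {Y Y₀ : Over S} {h : Y ⟶ H} (hh : Killed h) (g : Y₀ ⟶ Y) : Killed (g ≫ h) :=
  fun Y' q χ hχ n hn hp => by rw [← Category.assoc]; exact hh Y' (q ≫ g) χ hχ n hn hp

theorem Killed.one {Y : Over S} : Killed (1 : Y ⟶ H) := fun Y' q χ hχ n _ _ => by
  rw [MonObj.comp_one]
  exact eq_one_of_mul_self (G := Y' ⟶ Red.Gm S) ((hχ Y' 1 1 (𝟙 Y')).symm.trans
    (congrArg (fun t => lift t (𝟙 Y') ≫ χ) one_mul_one_pt))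

theorem Killed.mul {Y : Over S} {a b : Y ⟶ H} (ha : Killed a) (hb : Killed b) : Killed (a * b) :=
  fun Y' q χ hχ n hn hp => by
    rw [MonObj.comp_mul, hχ, ha Y' q χ hχ n hn hp, hb Y' q χ hχ n hn hp]
    exact one_mul_one_pt

theorem Killed.inv {Y : Over S} {a : Y ⟶ H} (ha : Killed a) : Killed a⁻¹ := fun Y' q χ hχ n hn hp => by
  have h1 := hχ Y' (q ≫ a⁻¹) (q ≫ a) (𝟙 Y')
  rw [← MonObj.comp_mul, inv_mul_cancel, MonObj.comp_one] at h1
  have h0 := Killed.one (Y := Y') Y' (𝟙 _) χ hχ n hn hp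
  rw [MonObj.comp_one] at h0
  exact eq_one_of_mul_eq_one (G := Y' ⟶ Red.Gm S) (h1.symm.trans h0) (ha Y' q χ hχ n hn hp)

theorem Killed.of_covers {Y P : Over S} {h : Y ⟶ H} (p : P ⟶ Y) (hp : FpqcDescLib.Covers p.left)
    (hh : Killed (p ≫ h)) : Killed h := by
  intro Y' q χ hχ n hn hpow
  let Q : Over S := Over.mk (pullback.fst q.left p.left ≫ Y'.hom)
  let a : Q ⟶ Y' := Over.homMk (pullback.fst q.left p.left) rfl
  let b : Q ⟶ P := Over.homMk (pullback.snd q.left p.left) (by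
    show pullback.snd q.left p.left ≫ P.hom = pullback.fst q.left p.left ≫ Y'.hom
    rw [← Over.w p, ← Category.assoc, ← pullback.condition, Category.assoc, Over.w q])
  haveI := FpqcDescLib.Covers.over_epi
    (show FpqcDescLib.Covers a.left from hp.pullback q.left _ _ (IsPullback.of_hasPullback q.left p.left))
  have hab : b ≫ p = a ≫ q := Over.OverMorphism.ext pullback.condition.symm
  have h1 := hh Q b ((H ◁ a) ≫ χ) (isHomFamily_comp hχ a) n hn (by rw [← comp_npow, hpow, MonObj.comp_one])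
  rw [lift_whiskerLeft_assoc, reassoc_of% hab, Category.id_comp] at h1
  rw [← cancel_epi a, MonObj.comp_one, comp_lift_assoc, Category.comp_id]
  exact h1

/-- A torus over a scheme over the base lands in the killed points. -/
theorem killed_of_torus {V : Scheme.{u}} (b : V ⟶ S) {R : Over V} [GrpObj R] (hR : Red.IsTorus R)
    (j : R ⟶ Red.bc b H) [IsMonHom j] {X : Over V} (x : X ⟶ R) : Killed (theta b (x ≫ j)) := by
  intro Y' q χ hχ n hn hpow
  let Y'' : Over V := Over.mk (q.left ≫ X.hom)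
  let ε : (Over.map b).obj Y'' ≅ Y' := Over.isoMk (Iso.refl _) (by
    show 𝟙 _ ≫ Y'.hom = (q.left ≫ X.hom) ≫ b
    rw [Category.id_comp, Category.assoc]
    exact (Over.w q).symm)
  let q'' : Y'' ⟶ X := Over.homMk q.left rfl
  have hq : (Over.map b).map q'' = ε.hom ≫ q := Over.OverMorphism.ext (Category.id_comp _).symm
  obtain ⟨c⟩ := MultTypeBC.bc_DS b ℤ
  let cm : Red.bc b (Red.Gm S) ⟶ Red.DS V ℤ := c.hom.hom.hom
  haveI : IsMonHom cm := c.hom.hom.isMonHom_hom
  haveI : IsIso cm := ⟨c.inv.hom.hom, congrArg (fun k => k.hom.hom) c.hom_inv_id,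
    congrArg (fun k => k.hom.hom) c.inv_hom_id⟩
  let χ'' := toBc b ((H ◁ ε.hom) ≫ χ)
  have hχ'' := (isHomFamily_toBc b _).2 (isHomFamily_comp hχ ε.hom)
  have hone : toBc b (1 : H ⊗ (Over.map b).obj Y'' ⟶ Red.Gm S) = 1 := by
    exact eq_one_of_mul_self (G := Red.bc b H ⊗ Y'' ⟶ Red.bc b (Red.Gm S))
      ((toBc_mul b (1 : H ⊗ (Over.map b).obj Y'' ⟶ Red.Gm S) 1).symm.trans (congrArg (toBc b) one_mul_one_pt))
  have hpow' : ∀ k : ℕ, toBc b (((H ◁ ε.hom) ≫ χ) ^ k) = χ'' ^ k := fun k => by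
    induction k with
    | zero => rw [pow_zero, pow_zero, hone]
    | succ k ih => rw [pow_succ, pow_succ, toBc_mul, ih]
  have h1 : (j ▷ Y'') ≫ χ'' ≫ cm = 1 := by
    refine family_eq_one hR _ (fun Z g₁ g₂ t => ?_) hn ?_
    · simp only [lift_whiskerRight_assoc]
      rw [MonObj.mul_comp g₁ g₂ j, ← Category.assoc, hχ'' Z _ _ t]
      exact (MonObj.mul_comp _ _ cm).trans (by simp only [Category.assoc, χ''])
    · rw [← Category.assoc, ← npow_comp _ cm, ← comp_npow, ← hpow', ← comp_npow, hpow, MonObj.comp_one, hone,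
        MonObj.comp_one]
      exact MonObj.one_comp cm
  have h2 : (j ▷ Y'') ≫ χ'' = 1 := by
    rw [← cancel_mono cm, Category.assoc, h1]
    exact (MonObj.one_comp cm).symm
  have h3 := congrArg (theta b) (congrArg (lift (q'' ≫ x) (𝟙 Y'') ≫ ·) h2)
  simp only [lift_whiskerRight_assoc, MonObj.comp_one, χ'', theta_toBc, Functor.map_id] at h3
  have hth1 : theta b (1 : Y'' ⟶ Red.bc b (Red.Gm S)) = 1 := by
    exact eq_one_of_mul_self (G := (Over.map b).obj Y'' ⟶ Red.Gm S)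
      ((theta_mul b (1 : Y'' ⟶ Red.bc b (Red.Gm S)) 1).symm.trans (congrArg (theta b) one_mul_one_pt))
  rw [hth1, lift_whiskerLeft_assoc, (Over.map b).map_id, Category.id_comp, Category.assoc, theta_comp, hq,
    Category.assoc] at h3
  rw [← cancel_epi ε.hom, MonObj.comp_one, comp_lift_assoc, Category.comp_id]
  exact h3

end Groth.Agent.TorusQI
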