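import Groth.Agent.TorusQI.SplitQuotient
import Mathlib.LinearAlgebra.FreeModule.PID
import Mathlib.LinearAlgebra.Dimension.Free

/-!
# Quotients of tori by subgroups of multiplicative type are tori
-/

universe u

open CategoryTheory CategoryTheory.Limits MonoidalCategory CartesianMonoidalCategory MonObj GrpObj AlgebraicGeometry
open Groth.Agent.HomRepLib Groth.Agent.DSPtsLib Groth.Agent.GrpSchLib

namespace Groth.Agent.TorusQI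

set_option backward.isDefEq.respectTransparency.types false
set_option maxHeartbeats 400000

variable {S : Scheme.{u}}

theorem nonempty_bc_id (X : Over S) [GrpObj X] : Nonempty (Grp.mk (Red.bc (𝟙 S) X) ≅ Grp.mk X) :=
  ⟨(Functor.mapGrpNatIso Over.pullbackId ≪≫ Functor.mapGrpIdIso).app (Grp.mk X)⟩

theorem nonempty_DS_congr {M N : Type} [AddCommGroup M] [AddCommGroup N] (φ : M ≃+ N) :
    Nonempty (Grp.mk (Red.DS S N) ≅ Grp.mk (Red.DS S M)) := by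
  haveI := isIso_DSmap (S := S) φ.toAddMonoidHom φ.bijective
  haveI : IsMonHom (asIso (Red.DSmap S φ.toAddMonoidHom)).hom := S5427.isMonHom_DSmap _ _
  exact ⟨Grp.mkIso' (asIso (Red.DSmap S φ.toAddMonoidHom))⟩

theorem exists_free_subgroup {r : ℕ} (K : AddSubgroup (Fin r → ℤ)) :
    ∃ n : ℕ, n ≤ r ∧ Nonempty (K ≃+ (Fin n → ℤ)) := by
  obtain ⟨n, B⟩ := Submodule.basisOfPid (Pi.basisFun ℤ (Fin r)) (AddSubgroup.toIntSubmodule K)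
  refine ⟨n, ?_, ⟨B.equivFun.toAddEquiv⟩⟩
  have h := Submodule.finrank_le (AddSubgroup.toIntSubmodule K)
  rw [Module.finrank_eq_card_basis B, Fintype.card_fin, Module.finrank_fin_fun] at h
  exact h

variable {T H Q : Over S} [GrpObj T] [GrpObj H] [GrpObj Q]

/-- A quotient of a split torus is, on an open and closed neighbourhood of each point, a split torus. -/
theorem exists_clopen_split_quot {r : ℕ} (hT : Red.IsSplitTorusWith (Fin r → ℤ) T) (hH : SGA3x.IsMultTypeFT H)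
    (i : H ⟶ T) [IsMonHom i] [Mono i] (q : T ⟶ Q) [IsMonHom q] (hc : FpqcDescLib.IsCosetMap i q)
    (hq : FpqcDescLib.Covers q.left) (s : S) :
    ∃ (U : S.Opens), s ∈ U ∧ IsClosed (U : Set S) ∧
      ∃ n : ℕ, n ≤ r ∧ Red.IsSplitTorusWith (Fin n → ℤ) (Red.bc U.ι Q) := by
  obtain ⟨e⟩ := hT
  haveI : AddGroup.FG (Fin r → ℤ) := Module.Finite.iff_addGroup_fg.mp inferInstance
  obtain ⟨K, U, hs, hU, ⟨eQ⟩⟩ := exists_clopen_quot e hH i q hc hq s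
  obtain ⟨n, hn, ⟨φ⟩⟩ := exists_free_subgroup K
  obtain ⟨eK⟩ := nonempty_DS_congr (S := (U : Scheme.{u})) φ.symm
  exact ⟨U, hs, hU, n, hn, ⟨eQ ≪≫ eK⟩⟩

/-- A quotient of a locally split torus is locally split. -/
theorem locallySplit_quot (hT : ∀ s : S, ∃ U : S.Opens, s ∈ U ∧ ∃ r : ℕ,
      Red.IsSplitTorusWith (Fin r → ℤ) (Red.bc U.ι T)) (hH : SGA3x.IsMultTypeFT H)
    (i : H ⟶ T) [IsMonHom i] [Mono i] (q : T ⟶ Q) [IsMonHom q] (hc : FpqcDescLib.IsCosetMap i q)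
    (hq : FpqcDescLib.Covers q.left) (s : S) :
    ∃ U : S.Opens, s ∈ U ∧ ∃ r : ℕ, Red.IsSplitTorusWith (Fin r → ℤ) (Red.bc U.ι Q) := by
  obtain ⟨U₀, hs, r, hr⟩ := hT s
  haveI : Mono ((Over.pullback U₀.ι).map i) := inferInstance
  obtain ⟨U, hsU, -, n, -, ⟨e⟩⟩ := exists_clopen_split_quot hr (MultTypeBC.isMultTypeFT_bc U₀.ι hH)
    ((Over.pullback U₀.ι).map i) ((Over.pullback U₀.ι).map q) (isCosetMap_bc hc U₀.ι)
    (hq.pullback _ _ _ (HomSplitLocal.isPullback_map q U₀.ι).flip) ⟨s, hs⟩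
  let v : ((U₀.ι ''ᵁ U : S.Opens) : Scheme.{u}) ⟶ U := (U₀.ι.isoImage U).inv
  obtain ⟨e₁⟩ := MultTypeBC.bc_bc v U.ι (Red.bc U₀.ι Q)
  obtain ⟨e₂⟩ := MultTypeBC.bc_bc (v ≫ U.ι) U₀.ι Q
  obtain ⟨e₃⟩ := MultTypeBC.bc_congr (show (v ≫ U.ι) ≫ U₀.ι = (U₀.ι ''ᵁ U).ι by
    rw [Category.assoc]; exact U₀.ι.isoImage_inv_ι U) Q
  obtain ⟨e₄⟩ := MultTypeBC.bc_iso v e
  obtain ⟨e₅⟩ := MultTypeBC.bc_DS v (Fin n → ℤ)
  exact ⟨U₀.ι ''ᵁ U, ⟨⟨s, hs⟩, hsU, rfl⟩, n, ⟨e₃.symm ≪≫ e₂.symm ≪≫ e₁.symm ≪≫ e₄ ≪≫ e₅⟩⟩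

/-- A quotient of a torus is a torus. -/
theorem isTorus_quot (hT : Red.IsTorus T) (hH : SGA3x.IsMultTypeFT H)
    (i : H ⟶ T) [IsMonHom i] [Mono i] (q : T ⟶ Q) [IsMonHom q] (hc : FpqcDescLib.IsCosetMap i q)
    (hq : FpqcDescLib.Covers q.left) : Red.IsTorus Q := by
  obtain ⟨S', f, h1, h2, h3, hloc⟩ := hT
  refine ⟨S', f, h1, h2, h3, fun s' => ?_⟩
  haveI : Mono ((Over.pullback f).map i) := inferInstance
  obtain ⟨U, hU, r, hr⟩ := locallySplit_quot (T := Red.bc f T) (Q := Red.bc f Q) (fun t => by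
      obtain ⟨U, hU, r, ⟨e⟩⟩ := hloc t
      obtain ⟨e₁⟩ := MultTypeBC.bc_bc U.ι f T
      exact ⟨U, hU, r, ⟨e₁ ≪≫ e⟩⟩) (MultTypeBC.isMultTypeFT_bc f hH)
    ((Over.pullback f).map i) ((Over.pullback f).map q) (isCosetMap_bc hc f)
    (hq.pullback _ _ _ (HomSplitLocal.isPullback_map q f).flip) s'
  obtain ⟨e₁⟩ := MultTypeBC.bc_bc U.ι f Q
  obtain ⟨e⟩ := hr
  exact ⟨U, hU, r, ⟨e₁.symm ≪≫ e⟩⟩

/-- On a connected base a quotient of a split torus is split. -/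
theorem split_quot [ConnectedSpace ↥S] {r : ℕ} (hT : Red.IsSplitTorusWith (Fin r → ℤ) T)
    (hH : SGA3x.IsMultTypeFT H) (i : H ⟶ T) [IsMonHom i] [Mono i] (q : T ⟶ Q) [IsMonHom q]
    (hc : FpqcDescLib.IsCosetMap i q) (hq : FpqcDescLib.Covers q.left) :
    ∃ r' : ℕ, r' ≤ r ∧ Red.IsSplitTorusWith (Fin r' → ℤ) Q := by
  obtain ⟨s⟩ := (inferInstance : Nonempty ↥S)
  obtain ⟨U, hs, hU, n, hn, ⟨e⟩⟩ := exists_clopen_split_quot hT hH i q hc hq s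
  obtain rfl : U = ⊤ := TopologicalSpace.Opens.ext (IsClopen.eq_univ ⟨hU, U.2⟩ ⟨s, hs⟩)
  obtain ⟨e₁⟩ := MultTypeBC.bc_bc S.topIso.inv (⊤ : S.Opens).ι Q
  obtain ⟨e₂⟩ := MultTypeBC.bc_congr (show S.topIso.inv ≫ (⊤ : S.Opens).ι = 𝟙 S by simp) Q
  obtain ⟨e₃⟩ := nonempty_bc_id Q
  obtain ⟨e₄⟩ := MultTypeBC.bc_iso S.topIso.inv e
  obtain ⟨e₅⟩ := MultTypeBC.bc_DS S.topIso.inv (Fin n → ℤ)
  exact ⟨n, hn, ⟨e₃.symm ≪≫ e₂.symm ≪≫ e₁.symm ≪≫ e₄ ≪≫ e₅⟩⟩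

end Groth.Agent.TorusQI
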