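import Groth.Agent.TorusQI.SplitSubtori

/-!
# Greatest split and locally split subtori
-/

universe u

open CategoryTheory CategoryTheory.Limits MonoidalCategory CartesianMonoidalCategory MonObj GrpObj AlgebraicGeometry
open Groth.Agent.HomRepLib Groth.Agent.DSPtsLib Groth.Agent.GrpSchLib

namespace Groth.Agent.TorusQI

set_option backward.isDefEq.respectTransparency.types false
set_option maxHeartbeats 400000

variable {S : Scheme.{u}} {G : Over S} [GrpObj G]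

theorem split_Gm : Red.IsSplitTorusWith (Fin 1 → ℤ) (Red.Gm S) :=
  nonempty_DS_congr (S := S) (AddEquiv.funUnique (Fin 1) ℤ)

/-- Over a connected base there is a greatest split subtorus. -/
theorem exists_greatest_split [ConnectedSpace ↥S] (hG : SGA3x.IsMultTypeFT G) :
    ∃ (T : Over S) (_ : GrpObj T) (j : T ⟶ G) (r : ℕ), IsMonHom j ∧ Mono j ∧
      Red.IsSplitTorusWith (Fin r → ℤ) T ∧
      ∀ (T' : Over S) [GrpObj T'] (j' : T' ⟶ G) [IsMonHom j'] [Mono j'] (r' : ℕ),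
        Red.IsSplitTorusWith (Fin r' → ℤ) T' → ∃ g : T' ⟶ T, g ≫ j = j' := by
  obtain ⟨T, iT, j, r, hj, hjm, hT, hmax⟩ := exists_maximal_split hG
  refine ⟨T, iT, j, r, hj, hjm, hT, fun T' _ j' _ _ r' hT' => ?_⟩
  haveI := hj
  haveI := hjm
  obtain ⟨E₃, i₃, j₃, g₁, g₂, hj₃, hm₃, -, hsplit, h₁, h₂⟩ :=
    exists_locSplit_ge hG j j' (isLocSplit_of_split hT) (isLocSplit_of_split hT')
  obtain ⟨r₃, hr₃⟩ := hsplit r r' inferInstance hT hT'
  haveI := hj₃
  haveI := hm₃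
  haveI := hmax E₃ j₃ r₃ g₁ hr₃ h₁
  exact ⟨g₂ ≫ inv g₁, by rw [Category.assoc, ← h₁, IsIso.inv_hom_id_assoc, h₂]⟩

/-- Over a connected base there is a greatest locally split subtorus. -/
theorem exists_greatest_locSplit [ConnectedSpace ↥S] (hG : SGA3x.IsMultTypeFT G) :
    ∃ (T : Over S) (_ : GrpObj T) (j : T ⟶ G), IsMonHom j ∧ Mono j ∧ IsLocSplit T ∧
      ∀ (T' : Over S) [GrpObj T'] (j' : T' ⟶ G) [IsMonHom j'] [Mono j'],
        IsLocSplit T' → ∃ g : T' ⟶ T, g ≫ j = j' := by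
  classical
  obtain ⟨T₀, iT₀, j₀, r₀, hj₀, hjm₀, hT₀, -⟩ := exists_maximal_split hG
  obtain ⟨s⟩ := (inferInstance : Nonempty ↥S)
  haveI hsub : ∀ t : ↥S, Subsingleton ↥(Spec (CommRingCat.of (AlgebraicClosure (S.residueField t)))) := fun t =>
    inferInstanceAs (Subsingleton (PrimeSpectrum (AlgebraicClosure (S.residueField t))))
  haveI hne : ∀ t : ↥S, Nonempty ↥(Spec (CommRingCat.of (AlgebraicClosure (S.residueField t)))) := fun t =>
    inferInstanceAs (Nonempty (PrimeSpectrum (AlgebraicClosure (S.residueField t))))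
  obtain ⟨M, iM, hM, ⟨eG⟩⟩ := exists_diag_geom hG (Red.geomPt s)
  let P : ℕ → Prop := fun r => ∃ (T : Over S) (_ : GrpObj T) (j : T ⟶ G), IsMonHom j ∧ Mono j ∧ IsLocSplit T ∧
    Red.IsSplitTorusWith (Fin r → ℤ) (Red.geomFibre s T)
  have hb : ∀ r, P r → r ≤ Module.finrank ℤ M := by
    rintro r ⟨T, _, j, _, _, -, h⟩
    exact le_finrank_of_mono h eG ((Over.pullback (Red.geomPt s)).map j)
  obtain ⟨c, hc⟩ := exists_const_rank (isLocSplit_of_split hT₀)
  have hP₀ : P c := ⟨T₀, iT₀, j₀, hj₀, hjm₀, isLocSplit_of_split hT₀, hc s⟩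
  obtain ⟨r, ⟨T, iT, j, hj, hjm, hT, hTs⟩, hmax⟩ : ∃ r, P r ∧ ∀ r', P r' → r' ≤ r :=
    ⟨Nat.findGreatest P (Module.finrank ℤ M), Nat.findGreatest_spec (hb c hP₀) hP₀,
      fun r' h => Nat.le_findGreatest (hb r' h) h⟩
  refine ⟨T, iT, j, hj, hjm, hT, fun T' _ j' _ _ hT' => ?_⟩
  haveI := hj
  haveI := hjm
  obtain ⟨E₃, i₃, j₃, g₁, g₂, hj₃, hm₃, hE₃, -, h₁, h₂⟩ := exists_locSplit_ge hG j j' hT hT'
  haveI := hj₃
  haveI := hm₃
  haveI : IsMonHom g₁ := isMonHom_of_pts g₁ fun Y x y => by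
    rw [← cancel_mono j₃, Category.assoc, h₁, MonObj.mul_comp x y j, MonObj.mul_comp _ _ j₃, Category.assoc,
      Category.assoc, h₁]
  haveI : Mono (g₁ ≫ j₃) := by rw [h₁]; exact hjm
  haveI : Mono g₁ := mono_of_mono g₁ j₃
  obtain ⟨a, ha⟩ := exists_const_rank hT
  obtain ⟨d, hd⟩ := exists_const_rank hE₃
  have hfg : ∀ n : ℕ, AddGroup.FG (Fin n → ℤ) := fun n => Module.Finite.iff_addGroup_fg.1 inferInstance
  haveI := hfg a
  haveI := hfg r
  haveI := hfg d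
  have hra : a = r := by
    obtain ⟨e⟩ := ha s
    obtain ⟨e'⟩ := hTs
    obtain ⟨φ⟩ := nonempty_addEquiv (e.symm ≪≫ e')
    simpa using φ.toIntLinearEquiv.finrank_eq
  have hle : a ≤ d := by
    obtain ⟨e⟩ := hd s
    have := le_finrank_of_mono (ha s) e ((Over.pullback (Red.geomPt s)).map g₁)
    rwa [Module.finrank_fin_fun] at this
  have had : a = d := le_antisymm hle (hra ▸ hmax d ⟨E₃, i₃, j₃, hj₃, hm₃, hE₃, hd s⟩)
  haveI : IsIso g₁ := isIso_of_geomFibres (isMultTypeFT_of_isTorus (isTorus_of_locSplit hT))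
    (isMultTypeFT_of_isTorus (isTorus_of_locSplit hE₃)) g₁ fun t => isIso_of_mono_split (ha t) (had ▸ hd t) _
  exact ⟨g₂ ≫ inv g₁, by rw [Category.assoc, ← h₁, IsIso.inv_hom_id_assoc, h₂]⟩

end Groth.Agent.TorusQI
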