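import Groth.Agent.TorusQI.TorsionChar
import Groth.Agent.MultTypeQI.EtaleLocal
import Groth.Agent.S5427
import Mathlib.GroupTheory.FiniteAbelian.Basic

/-!
# The maximal subtorus of a group of multiplicative type

The points killed by all characters of finite order form a closed subgroup scheme, which is a torus and contains
every subtorus.
-/

universe u

open CategoryTheory CategoryTheory.Limits MonoidalCategory CartesianMonoidalCategory MonObj GrpObj AlgebraicGeometry
open Groth.Agent.HomRepLib Groth.Agent.DSPtsLib Groth.Agent.GrpSchLib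

namespace Groth.Agent.TorusQI

set_option backward.isDefEq.respectTransparency.types false
set_option maxHeartbeats 400000

variable {S : Scheme.{u}}

/-- A finitely generated commutative group is free up to elements of finite order. -/
theorem exists_free_quot (M : Type) [AddCommGroup M] [AddGroup.FG M] :
    ∃ (r : ℕ) (p : M →+ (Fin r → ℤ)), Function.Surjective p ∧ ∀ m, p m = 0 → ∃ n : ℕ, n ≠ 0 ∧ n • m = 0 := by
  obtain ⟨r, ι', _, q, hq, k, ⟨e⟩⟩ := AddCommGroup.equiv_free_prod_directSum_zmod M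
  haveI : ∀ i, NeZero (q i ^ k i) := fun i => ⟨pow_ne_zero _ (hq i).ne_zero⟩
  refine ⟨r, (Finsupp.linearEquivFunOnFinite ℤ ℤ (Fin r)).toAddEquiv.toAddMonoidHom.comp
    ((AddMonoidHom.fst _ _).comp e.toAddMonoidHom), fun x => ?_, fun m hm => ?_⟩
  · exact ⟨e.symm ((Finsupp.linearEquivFunOnFinite ℤ ℤ (Fin r)).symm x, 0), by simp⟩
  · haveI : Finite (DirectSum ι' fun i => ZMod (q i ^ k i)) := Finite.of_equiv _ DFinsupp.equivFunOnFintype.symm
    have h1 : (e m).1 = 0 := (Finsupp.linearEquivFunOnFinite ℤ ℤ (Fin r)).injective (by rw [map_zero]; exact hm)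
    refine ⟨Nat.card (DirectSum ι' fun i => ZMod (q i ^ k i)), Nat.card_pos.ne', e.injective ?_⟩
    rw [map_nsmul, map_zero]
    exact Prod.ext (by rw [Prod.smul_fst, h1, nsmul_zero]; rfl) (by rw [Prod.smul_snd]; exact card_nsmul_eq_zero')

theorem chi_pow {M : Type} [AddCommGroup M] {m : M} {n : ℕ} (h : n • m = 0) :
    (Red.chi S m) ^ n = (1 : Red.DS S M ⟶ Red.Gm S) := by
  refine ev_ext (M := ℤ) fun k => ?_
  rw [ev_pow, ev_one, Red.chi, ← Category.id_comp (Red.DSmap S _), ev_DSmap]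
  rw [zmultiplesHom_apply, nsmul_eq_mul, mul_comm, mul_smul, natCast_zsmul, h, smul_zero, ev_zero]

/-- Factoring through the subgroup cut out by a surjection of characters. -/
theorem exists_fac_DSmap {M N : Type} [AddCommGroup M] [AddCommGroup N] {π : M →+ N} (hπ : Function.Surjective π)
    {X : Over S} (x : X ⟶ Red.DS S M) (h : ∀ m, π m = 0 → ev x m = 1) : ∃ l, l ≫ Red.DSmap S π = x := by
  have hwd : ∀ a b : M, π a = π b → ev x a = ev x b := fun a b hab => by
    have hd : π (a - b) = 0 := by rw [map_sub, hab, sub_self]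
    rw [← sub_add_cancel a b, ev_add, h _ hd, _root_.one_mul]
  obtain ⟨l, hl⟩ := exists_ev (S := S) (X := X) (M := N)
    { toFun := fun n => ev x (Function.surjInv hπ (Multiplicative.toAdd n))
      map_one' := (hwd _ 0 (by rw [Function.surjInv_eq hπ, toAdd_one, map_zero])).trans (ev_zero x)
      map_mul' := fun a b => (hwd _ (_ + _) (by
        rw [map_add, Function.surjInv_eq hπ, Function.surjInv_eq hπ, Function.surjInv_eq hπ, toAdd_mul])).trans
          (ev_add x _ _) }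
  refine ⟨l, ev_ext fun m => ?_⟩
  rw [ev_DSmap, hl]
  exact hwd _ _ (Function.surjInv_eq hπ _)

theorem isTorus_DS (r : ℕ) : Red.IsTorus (Red.DS S (Fin r → ℤ)) := by
  haveI : IsIso (𝟙 S) := inferInstance
  refine ⟨S, 𝟙 S, inferInstance, inferInstance, fun V hV => ⟨V, hV.isCompact, Set.image_id _⟩,
    fun _ => ⟨⊤, trivial, r, ?_⟩⟩
  exact MultTypeBC.bc_DS _ _

variable {H : Over S} [GrpObj H]

/-- On a scheme where the group is diagonalisable the killed points form a split subtorus. -/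
theorem exists_piece {S' : Scheme.{u}} (f : S' ⟶ S) {M : Type} [AddCommGroup M] [AddGroup.FG M]
    (e : Grp.mk (Red.bc f H) ≅ Grp.mk (Red.DS S' M)) :
    ∃ (r : ℕ) (k : Red.DS S' (Fin r → ℤ) ⟶ Red.bc f H), IsMonHom k ∧ IsClosedImmersion k.left ∧
      ∀ (Y : Over S') (y : Y ⟶ Red.bc f H), Killed (theta f y) ↔ ∃ l, l ≫ k = y := by
  obtain ⟨r, p, hp, hker⟩ := exists_free_quot M
  let a : Red.bc f H ⟶ Red.DS S' M := e.hom.hom.hom
  let ai : Red.DS S' M ⟶ Red.bc f H := e.inv.hom.hom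
  haveI : IsMonHom a := e.hom.hom.isMonHom_hom
  haveI : IsMonHom ai := e.inv.hom.isMonHom_hom
  have hai : ai ≫ a = 𝟙 _ := congrArg (fun k => k.hom.hom) e.inv_hom_id
  have hia : a ≫ ai = 𝟙 _ := congrArg (fun k => k.hom.hom) e.hom_inv_id
  haveI : IsIso ai.left := ⟨a.left, congrArg Over.Hom.left hai, congrArg Over.Hom.left hia⟩
  haveI : IsMonHom (Red.DSmap S' p) := S5427.isMonHom_DSmap S' _
  haveI : IsClosedImmersion (Red.DSmap S' p).left := S5427.isClosedImmersion_DSmap S' p hp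
  refine ⟨r, Red.DSmap S' p ≫ ai, inferInstance, by rw [Over.comp_left]; infer_instance,
    fun Y y => ⟨fun hy => ?_, ?_⟩⟩
  · obtain ⟨c⟩ := MultTypeBC.bc_DS f ℤ
    let cm : Red.bc f (Red.Gm S) ⟶ Red.DS S' ℤ := c.hom.hom.hom
    let ci : Red.DS S' ℤ ⟶ Red.bc f (Red.Gm S) := c.inv.hom.hom
    haveI : IsMonHom ci := c.inv.hom.isMonHom_hom
    haveI : IsMonHom cm := c.hom.hom.isMonHom_hom
    have hci : ci ≫ cm = 𝟙 _ := congrArg (fun k => k.hom.hom) c.inv_hom_id
    have hcm : cm ≫ ci = 𝟙 _ := congrArg (fun k => k.hom.hom) c.hom_inv_id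
    obtain ⟨l, hl⟩ := exists_fac_DSmap (π := p) hp (y ≫ a) fun m hm => by
      obtain ⟨n, hn, hnm⟩ := hker m hm
      obtain ⟨χ, hχ⟩ := (toBc_bijective f).surjective
        (fst (Red.bc f H) Y ≫ a ≫ Red.chi S' m ≫ ci)
      haveI := isMonHom_chi (S := S') m
      have hχ' : AutFam.IsHomFamily H (Red.Gm S) χ := (isHomFamily_toBc f χ).1 (by
        rw [hχ]
        intro Z g₁ g₂ t
        simp only [lift_fst_assoc]
        exact MonObj.mul_comp g₁ g₂ (a ≫ Red.chi S' m ≫ ci))
      have hpow : ∀ j : ℕ, toBc f (χ ^ (j + 1)) = (fst (Red.bc f H) Y ≫ a ≫ Red.chi S' m ≫ ci) ^ (j + 1) := fun j => by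
        induction j with
        | zero => rw [pow_one, pow_one, hχ]
        | succ j ih => rw [pow_succ, toBc_mul, ih, hχ, ← pow_succ]
      obtain ⟨j, rfl⟩ := Nat.exists_eq_succ_of_ne_zero hn
      have hchi : (a ≫ Red.chi S' m ≫ ci) ^ (j + 1) = 1 := by
        rw [← comp_npow, ← npow_comp _ ci, chi_pow hnm, MonObj.one_comp ci, MonObj.comp_one]
      have hone : toBc f (1 : H ⊗ (Over.map f).obj Y ⟶ Red.Gm S) = 1 := by
        exact eq_one_of_mul_self (G := Red.bc f H ⊗ Y ⟶ Red.bc f (Red.Gm S))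
          ((toBc_mul f (1 : H ⊗ (Over.map f).obj Y ⟶ Red.Gm S) 1).symm.trans (congrArg (toBc f) one_mul_one_pt))
      have h1 := hy ((Over.map f).obj Y) (𝟙 _) χ hχ' (j + 1) hn ((toBc_bijective f).injective (by
        rw [hpow, ← comp_npow, hchi, MonObj.comp_one, hone]))
      have hth1 : theta f (1 : Y ⟶ Red.bc f (Red.Gm S)) = 1 := by
        exact eq_one_of_mul_self (G := (Over.map f).obj Y ⟶ Red.Gm S)
          ((theta_mul f (1 : Y ⟶ Red.bc f (Red.Gm S)) 1).symm.trans (congrArg (theta f) one_mul_one_pt))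
      have h2 : lift y (𝟙 Y) ≫ toBc f χ = 1 := (theta_bijective f).injective (by
        rw [theta_toBc, hth1, (Over.map f).map_id]
        rw [Category.id_comp] at h1
        exact h1)
      rw [hχ, lift_fst_assoc] at h2
      have h3 : (y ≫ a) ≫ Red.chi S' m = 1 := by
        have h4 := congrArg (· ≫ cm) h2
        simp only [Category.assoc, hci, Category.comp_id] at h4
        exact (Category.assoc _ _ _).trans (h4.trans (MonObj.one_comp cm))
      rw [← gmFn_chi, h3, GmPts.gmFn_one]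
    exact ⟨l, by rw [reassoc_of% hl, hia, Category.comp_id]⟩
  · rintro ⟨l, rfl⟩
    exact killed_of_torus f (isTorus_DS r) _ l

theorem Killed.of_pieces {Y : Over S} {h : Y ⟶ H} {κ : Type*} (O : κ → Y.left.Opens) (hO : ∀ y, ∃ k, y ∈ O k)
    (hk : ∀ k, Killed (inc Y (O k) ≫ h)) : Killed h := fun Y' q χ hχ n hn hp => by
  refine hom_ext_pieces (fun k => q.left ⁻¹ᵁ O k) (fun z => hO _) fun k => ?_
  obtain ⟨l, hl⟩ := exists_fac_inc (O k) (inc Y' (q.left ⁻¹ᵁ O k) ≫ q) (by
    rintro _ ⟨z, rfl⟩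
    exact z.2)
  have h1 := hk k _ l ((H ◁ inc Y' (q.left ⁻¹ᵁ O k)) ≫ χ) (isHomFamily_comp hχ _) n hn
    (by rw [← comp_npow, hp, MonObj.comp_one])
  rw [lift_whiskerLeft_assoc, Category.id_comp, ← Category.assoc l, hl, Category.assoc] at h1
  rw [MonObj.comp_one, comp_lift_assoc, Category.comp_id]
  exact h1

/-- A point of the underlying scheme killed by the characters of finite order. -/
def KilledL (H : Over S) [GrpObj H] {T : Scheme.{u}} (c : T ⟶ H.left) : Prop :=
  Killed (Over.homMk c rfl : Over.mk (c ≫ H.hom) ⟶ H)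

theorem killed_iff_left {Y : Over S} (h : Y ⟶ H) : Killed h ↔ KilledL H h.left := by
  let e : Over.mk (h.left ≫ H.hom) ≅ Y := Over.isoMk (Iso.refl _) (by
    show 𝟙 _ ≫ Y.hom = h.left ≫ H.hom
    rw [Category.id_comp, Over.w h])
  have he : e.hom ≫ h = (Over.homMk h.left rfl : Over.mk (h.left ≫ H.hom) ⟶ H) :=
    Over.OverMorphism.ext (Category.id_comp _)
  refine ⟨fun hh => ?_, fun hh => ?_⟩
  · show Killed _
    rw [← he]
    exact hh.comp _
  · have h0 := (show Killed (Over.homMk h.left rfl : Over.mk (h.left ≫ H.hom) ⟶ H) from hh).comp e.inv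
    rwa [← he, Iso.inv_hom_id_assoc] at h0

theorem KilledL.comp {T T' : Scheme.{u}} {c : T ⟶ H.left} (hc : KilledL H c) (l : T' ⟶ T) : KilledL H (l ≫ c) := by
  have h := (show Killed (Over.homMk c rfl : Over.mk (c ≫ H.hom) ⟶ H) from hc).comp
    (Over.homMk l rfl : Over.mk (l ≫ c ≫ H.hom) ⟶ Over.mk (c ≫ H.hom))
  exact (killed_iff_left _).1 h

theorem KilledL.of_openCover {T : Scheme.{u}} {c : T ⟶ H.left} (𝒰 : T.OpenCover)
    (h : ∀ i, KilledL H (𝒰.f i ≫ c)) : KilledL H c := by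
  refine Killed.of_pieces (fun i => (𝒰.f i).opensRange) (fun y => ?_) fun i => (killed_iff_left _).2 ?_
  · obtain ⟨i, z, hz⟩ := 𝒰.exists_eq y
    exact ⟨i, z, hz⟩
  · have h0 := (h i).comp (𝒰.f i).isoOpensRange.inv
    rw [← Category.assoc, Scheme.Hom.isoOpensRange_inv_comp] at h0
    exact h0

theorem exists_fac_of_covers {Z X P : Scheme.{u}} (i : Z ⟶ X) [Mono i] {Y : Scheme.{u}} (c : Y ⟶ X) {p : P ⟶ Y}
    (hp : FpqcDescLib.Covers p) (m : P ⟶ Z) (hm : m ≫ i = p ≫ c) : ∃ l, l ≫ i = c := by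
  have H1 : IsPullback (pullback.snd (pullback.snd i c) p) (pullback.fst (pullback.snd i c) p) p (pullback.snd i c) :=
    (IsPullback.of_hasPullback (pullback.snd i c) p).flip
  have hsec : pullback.lift (pullback.lift m p hm) (𝟙 P) (by rw [pullback.lift_snd, Category.id_comp]) ≫
      pullback.snd (pullback.snd i c) p = 𝟙 P := pullback.lift_snd _ _ _
  haveI : IsIso (pullback.snd (pullback.snd i c) p) :=
    ⟨_, by rw [← cancel_mono (pullback.snd (pullback.snd i c) p), Category.assoc, hsec, Category.comp_id,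
      Category.id_comp], hsec⟩
  haveI : IsIso (pullback.snd i c) :=
    hp.descends (MorphismProperty.isomorphisms Scheme.{u}) (pullback.snd i c) _ _ H1
      (inferInstanceAs (IsIso (pullback.snd (pullback.snd i c) p)))
  exact ⟨inv (pullback.snd i c) ≫ pullback.fst i c, by rw [Category.assoc, pullback.condition, IsIso.inv_hom_id_assoc]⟩

theorem exists_fac_of_openCover {Z X T : Scheme.{u}} (j : Z ⟶ X) [Mono j] (a : T ⟶ X) (𝒰 : T.OpenCover)
    (h : ∀ i, ∃ m, m ≫ j = 𝒰.f i ≫ a) : ∃ l, l ≫ j = a := by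
  choose m hm using h
  refine ⟨𝒰.glueMorphisms m fun x y => ?_, 𝒰.hom_ext _ _ fun x => ?_⟩
  · rw [← cancel_mono j, Category.assoc, Category.assoc, hm, hm, pullback.condition_assoc]
  · rw [Scheme.Cover.ι_glueMorphisms_assoc, hm]

theorem isTorus_bc_id {R : Over S} [GrpObj R] (hR : Red.IsTorus R) : Red.IsTorus (Red.bc (𝟙 S) R) := by
  obtain ⟨S', f, h1, h2, h3, hloc⟩ := hR
  refine ⟨S', f, h1, h2, h3, fun s => ?_⟩
  obtain ⟨U, hU, r, ⟨e⟩⟩ := hloc s
  obtain ⟨e₁⟩ := MultTypeBC.bc_bc (U.ι ≫ f) (𝟙 S) R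
  obtain ⟨e₂⟩ := MultTypeBC.bc_congr (Category.comp_id (U.ι ≫ f)) R
  exact ⟨U, hU, r, ⟨e₁ ≪≫ e₂ ≪≫ e⟩⟩

/-- The maximal torus of a group of multiplicative type. -/
theorem exists_maximalTorus (hH : SGA3x.IsMultTypeFT H) :
    ∃ (T : Over S) (_ : GrpObj T) (i : T ⟶ H), Red.IsMaximalTorus i ∧
      ∀ (R : Over S) [GrpObj R] (j : R ⟶ H) [IsMonHom j] [Mono j], Red.IsTorus R → ∃ f : R ⟶ T, f ≫ i = j := by
  have hl := MultTypeQI.etale_locally_diag hH
  choose S' f hf hs M hM hfg hiso using hl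
  choose r k hk hcl hkill using fun s => @exists_piece S H _ (S' s) (f s) (M s) (hM s) (hfg s) (hiso s).some
  haveI : ∀ s, IsClosedImmersion (k s).left := hcl
  haveI : ∀ s, Mono (k s) := fun s => Over.mono_of_mono_left _
  let g : (∐ fun s => (Red.bc (f s) H).left) ⟶ H.left := Sigma.desc fun s => pullback.fst H.hom (f s)
  haveI : ∀ s, Etale (f s) := hf
  haveI hget : Etale g := IsZariskiLocalAtSource.sigmaDesc (P := @Etale) fun s => inferInstanceAs (Etale (pullback.fst H.hom (f s)))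
  haveI : Surjective g := ⟨fun x => by
    obtain ⟨y, hy⟩ := hs (H.hom x)
    obtain ⟨z, hz, -⟩ := Scheme.Pullback.exists_preimage_pullback (f := H.hom) (g := f (H.hom x)) x y hy.symm
    exact ⟨Sigma.ι (fun s => (Red.bc (f s) H).left) (H.hom x) z, by
      rw [← Scheme.Hom.comp_apply, Sigma.ι_desc]; exact hz⟩⟩
  have hg : FpqcDescLib.IsCovering g := FpqcDescLib.isCovering_of_lfp g
  let j : (∐ fun s => (Red.DS (S' s) (Fin (r s) → ℤ)).left) ⟶ ∐ fun s => (Red.bc (f s) H).left :=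
    Limits.Sigma.map fun s => (k s).left
  haveI : IsClosedImmersion j := DescLib.prop_sigmaMap @IsClosedImmersion _ hcl
  have hι : ∀ s, Sigma.ι (fun s => (Red.DS (S' s) (Fin (r s) → ℤ)).left) s ≫ j ≫ g =
      (k s).left ≫ pullback.fst H.hom (f s) := fun s => by
    rw [Sigma.ι_map_assoc, Sigma.ι_desc]
  have sharp : ∀ (T : Scheme.{u}) (a : T ⟶ ∐ fun s => (Red.bc (f s) H).left),
      (∃ l, l ≫ j = a) ↔ KilledL H (a ≫ g) := by
    refine fun T a => ⟨?_, fun ha => ?_⟩
    · rintro ⟨l, rfl⟩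
      rw [Category.assoc]
      refine KilledL.comp (KilledL.of_openCover (sigmaOpenCover _) fun s => ?_) l
      have h0 := (killed_iff_left _).1 ((hkill s _ (k s)).2 ⟨𝟙 _, Category.id_comp _⟩)
      rw [theta_left, ← hι] at h0
      exact h0
    · let 𝒰 := (sigmaOpenCover fun s => (Red.bc (f s) H).left).pullback₁ a
      have key : ∀ s : S, ∃ m : pullback a (Sigma.ι (fun s => (Red.bc (f s) H).left) s) ⟶ _,
          m ≫ j = pullback.fst a (Sigma.ι (fun s => (Red.bc (f s) H).left) s) ≫ a := fun s => by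
        let as := pullback.snd a (Sigma.ι (fun s => (Red.bc (f s) H).left) s)
        let Y : Over (S' s) := Over.mk (as ≫ (Red.bc (f s) H).hom)
        let y : Y ⟶ Red.bc (f s) H := Over.homMk as rfl
        have hy : Killed (theta (f s) y) := by
          rw [killed_iff_left, theta_left]
          have h1 := ha.comp (pullback.fst a (Sigma.ι (fun s => (Red.bc (f s) H).left) s))
          rw [pullback.condition_assoc, Sigma.ι_desc] at h1
          exact h1
        obtain ⟨l, hl⟩ := (hkill s Y y).1 hy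
        refine ⟨l.left ≫ Sigma.ι (fun s => (Red.DS (S' s) (Fin (r s) → ℤ)).left) s, ?_⟩
        rw [Category.assoc, Sigma.ι_map, ← Category.assoc, ← Over.comp_left, hl]
        exact pullback.condition.symm
      exact exists_fac_of_openCover j a 𝒰 key
  obtain ⟨Z₀, i, hi, hiff⟩ := SubschemeDescent.exists_descend g hg j
    (fun T a b e ha => by rw [sharp] at ha ⊢; rwa [← e])
    (fun hpre => by rw [g.isOpenMap.preimage_closure_eq_closure_preimage g.continuous, hpre])
  haveI := hi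
  let T : Over S := Over.mk (i ≫ H.hom)
  let ι' : T ⟶ H := Over.homMk i rfl
  haveI : Mono ι'.left := inferInstanceAs (Mono i)
  haveI : Mono ι' := Over.mono_of_mono_left _
  have hcov : FpqcDescLib.Covers g := FpqcDescLib.covers_of_isCovering hg
  have hchar : ∀ (Y : Over S) (h : Y ⟶ H), Killed h ↔ ∃ l, l ≫ ι' = h := by
    refine fun Y h => ⟨fun hh => ?_, ?_⟩
    · have h1 := ((killed_iff_left h).1 hh).comp (pullback.fst h.left g)
      rw [pullback.condition] at h1
      obtain ⟨m, hm⟩ := (hiff _ _).1 ((sharp _ _).2 h1)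
      obtain ⟨l, hl⟩ := exists_fac_of_covers i h.left (hcov.pullback h.left _ _ (IsPullback.of_hasPullback h.left g)) m
        (hm.trans pullback.condition.symm)
      exact ⟨Over.homMk l (by show l ≫ i ≫ H.hom = Y.hom; rw [reassoc_of% hl, Over.w h]), Over.OverMorphism.ext hl⟩
    · rintro ⟨l, rfl⟩
      refine Killed.comp ?_ l
      have h1 := (sharp _ _).1 ((hiff _ (pullback.snd i g)).2 ⟨pullback.fst i g, pullback.condition⟩)
      rw [← pullback.condition] at h1
      refine Killed.of_covers (Over.homMk (pullback.fst i g) rfl : Over.mk (pullback.fst i g ≫ i ≫ H.hom) ⟶ T)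
        (hcov.pullback i _ _ (IsPullback.of_hasPullback i g)) ((killed_iff_left _).2 h1)
  obtain ⟨e1, he1⟩ := (hchar (𝟙_ (Over S)) η[H]).1 (by
    rw [show η[H] = (1 : 𝟙_ (Over S) ⟶ H) from (by rw [Hom.one_def, toUnit_unique (toUnit _) (𝟙 _), Category.id_comp])]
    exact Killed.one)
  have hkT : Killed ι' := (hchar T ι').2 ⟨𝟙 _, Category.id_comp _⟩
  obtain ⟨μT, hμT⟩ := (hchar (T ⊗ T) _).1 (Killed.mul (hkT.comp (fst T T)) (hkT.comp (snd T T)))
  obtain ⟨iT, hiT⟩ := (hchar T _).1 hkT.inv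
  obtain ⟨strT, hmon⟩ := exists_grpObj_of_mono ι' e1 he1 μT hμT iT hiT
  haveI : IsMonHom ι' := hmon
  have htor : Red.IsTorus T := by
    let F : (∐ S') ⟶ S := Sigma.desc f
    haveI : Etale F := IsZariskiLocalAtSource.sigmaDesc (P := @Etale) hf
    haveI : Surjective F := ⟨fun x => by
      obtain ⟨y, hy⟩ := hs x
      exact ⟨Sigma.ι S' x y, by rw [← Scheme.Hom.comp_apply, Sigma.ι_desc]; exact hy⟩⟩
    refine ⟨∐ S', F, inferInstance, inferInstance,
      (SubgroupEqLocus.flat_hcov_of_isCovering (FpqcDescLib.isCovering_of_lfp F)).2, fun z => ?_⟩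
    obtain ⟨s, y, hy⟩ := (sigmaOpenCover S').exists_eq z
    refine ⟨(Sigma.ι S' s).opensRange, ⟨y, hy⟩, r s, ?_⟩
    let is : Red.bc (f s) T ⟶ Red.bc (f s) H := (Over.pullback (f s)).map ι'
    haveI : IsMonHom is := inferInstanceAs (IsMonHom ((Over.pullback (f s)).map ι'))
    haveI : Mono is := inferInstanceAs (Mono ((Over.pullback (f s)).map ι'))
    haveI := hk s
    obtain ⟨φ, hφ⟩ := (hkill s _ is).1 ((hchar _ _).2 ⟨theta (f s) (𝟙 (Red.bc (f s) T)), by
      rw [← HomUnitLocus.theta_comp_map, Category.id_comp]⟩)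
    obtain ⟨l, hl⟩ := (hchar _ _).1 ((hkill s _ (k s)).2 ⟨𝟙 _, Category.id_comp _⟩)
    obtain ⟨ψ, hψ⟩ := (theta_bijective (f s)).surjective l
    have hψ' : ψ ≫ is = k s := (theta_bijective (f s)).injective (by
      rw [HomUnitLocus.theta_comp_map, hψ, hl])
    haveI : IsMonHom φ :=
      { one_hom := by rw [← cancel_mono (k s), Category.assoc, hφ, IsMonHom.one_hom, IsMonHom.one_hom]
        mul_hom := by
          rw [← cancel_mono (k s), Category.assoc, Category.assoc, hφ, IsMonHom.mul_hom is, IsMonHom.mul_hom (k s),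
            MonoidalCategory.tensorHom_comp_tensorHom_assoc, hφ] }
    let ei : Red.bc (f s) T ≅ Red.DS (S' s) (Fin (r s) → ℤ) :=
      ⟨φ, ψ, by rw [← cancel_mono is, Category.assoc, hψ', hφ, Category.id_comp],
        by rw [← cancel_mono (k s), Category.assoc, hφ, hψ', Category.id_comp]⟩
    haveI : IsMonHom ei.hom := inferInstanceAs (IsMonHom φ)
    let v := (Sigma.ι S' s).isoOpensRange.inv
    obtain ⟨e₁⟩ := MultTypeBC.bc_bc v (f s) T
    obtain ⟨e₂⟩ := MultTypeBC.bc_congr (show (Sigma.ι S' s).opensRange.ι ≫ F = v ≫ f s by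
      rw [← Scheme.Hom.isoOpensRange_inv_comp, Category.assoc, Sigma.ι_desc]) T
    obtain ⟨e₃⟩ := MultTypeBC.bc_iso v (Grp.mkIso' ei)
    obtain ⟨e₄⟩ := MultTypeBC.bc_DS v (Fin (r s) → ℤ)
    exact ⟨e₂ ≪≫ e₁.symm ≪≫ e₃ ≪≫ e₄⟩
  refine ⟨T, strT, ι', ⟨inferInstance, inferInstance, htor, fun s T' _ jT _ _ φ hT' hφ => ?_⟩, fun R _ jR _ _ hR => ?_⟩
  · obtain ⟨l, hl⟩ := (hchar _ _).1 (killed_of_torus (Red.geomPt s) hT' jT (𝟙 T'))
    obtain ⟨ψ, hψ⟩ := (theta_bijective (Red.geomPt s)).surjective l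
    have hψ' : ψ ≫ (Over.pullback (Red.geomPt s)).map ι' = jT := (theta_bijective (Red.geomPt s)).injective (by
      rw [HomUnitLocus.theta_comp_map, hψ, hl, Category.id_comp])
    exact ⟨ψ, by rw [← cancel_mono ((Over.pullback (Red.geomPt s)).map ι'), Category.assoc, hψ', hφ, Category.id_comp],
      by rw [← cancel_mono jT, Category.assoc, hφ, hψ', Category.id_comp]⟩
  · let ε : (Over.map (𝟙 S)).obj R ≅ R := Over.isoMk (Iso.refl _) (by
      show 𝟙 _ ≫ R.hom = R.hom ≫ 𝟙 S
      rw [Category.id_comp, Category.comp_id])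
    obtain ⟨a, ha⟩ := (theta_bijective (𝟙 S)).surjective ε.hom
    have h1 := killed_of_torus (𝟙 S) (isTorus_bc_id hR) ((Over.pullback (𝟙 S)).map jR) a
    rw [HomUnitLocus.theta_comp_map, ha] at h1
    have h2 := h1.comp ε.inv
    rw [Iso.inv_hom_id_assoc] at h2
    exact (hchar R jR).1 h2

end Groth.Agent.TorusQI
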