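import Groth.Agent.GrpSchLib.HomSplitLocus
import Groth.Agent.MultTypeLib.GenMultType
import Groth.Agent.GrpSchLib.MultTypeLfp
import Groth.Agent.S12442
import Mathlib.AlgebraicGeometry.Morphisms.FlatMono

/-!
# The fibrewise criterion of isomorphism for groups of multiplicative type

A homomorphism of groups of multiplicative type which is an isomorphism on the geometric fibres is an isomorphism.
-/

universe u

open CategoryTheory CategoryTheory.Limits MonoidalCategory CartesianMonoidalCategory MonObj GrpObj AlgebraicGeometry
open Groth.Agent.GrpSchLib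

namespace Groth.Agent.TorusQI

set_option backward.isDefEq.respectTransparency.types false

variable {S : Scheme.{u}} {H Q : Over S} [GrpObj H] [GrpObj Q]

theorem geomPt_closedPoint (s : S) :
    Red.geomPt s (IsLocalRing.closedPoint (AlgebraicClosure (S.residueField s))) = s := by
  rw [Scheme.Hom.comp_apply]
  exact Scheme.fromSpecResidueField_apply s _

/-- A homomorphism of groups of multiplicative type which is a monomorphism on every geometric fibre is a
monomorphism. -/
theorem inj_of_geomFibres (hH : SGA3x.IsMultTypeFT H) (hQ : SGA3x.IsMultTypeFT Q) (u : H ⟶ Q) [IsMonHom u]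
    (h : ∀ s : S, Mono ((Over.pullback (Red.geomPt s)).map u)) : HomMonoLocus.Inj u (𝟙 S) := by
  obtain ⟨U, -, hU, hUι⟩ := HomSplitLocus.mono_locus (u := u) (MultTypeLib.GenMultType.of_multTypeFT hH) hQ
  have htop : U = ⊤ := TopologicalSpace.Opens.ext (Set.eq_univ_of_forall fun s => (hU s).2 (by
    have hm := h s
    have h1 : HomMonoLocus.Inj u (Red.geomPt s) := HomMonoLocus.inj_of_mono (Over.mono_left_of_mono _)
    have h2 := HomSplitLocus.residue_of_field (fun g => HomMonoLocus.Inj u g)
      (fun l _ _ hl h => HomMonoLocus.Inj.of_covers l hl h) _ h1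
    rwa [geomPt_closedPoint] at h2))
  subst htop
  simpa using hUι.comp (S.topIso.inv)

/-- A homomorphism of groups of multiplicative type which is an isomorphism on every geometric fibre is an
isomorphism. -/
theorem isIso_of_geomFibres (hH : SGA3x.IsMultTypeFT H) (hQ : SGA3x.IsMultTypeFT Q) (u : H ⟶ Q) [IsMonHom u]
    (h : ∀ s : S, IsIso ((Over.pullback (Red.geomPt s)).map u)) : IsIso u := by
  obtain ⟨U, -, hU, hUι⟩ := HomSplitLocus.ff_locus (u := u) (MultTypeLib.GenMultType.of_multTypeFT hH) hQ
  have htop : U = ⊤ := TopologicalSpace.Opens.ext (Set.eq_univ_of_forall fun s => (hU s).2 (by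
    have hi := h s
    haveI : IsIso ((Over.pullback (Red.geomPt s)).map u).left :=
      Functor.map_isIso (Over.forget _) ((Over.pullback (Red.geomPt s)).map u)
    have h2 := HomSplitLocus.residue_of_field (fun g => HomSplitLocal.Ff u g)
      (fun l _ _ _ h => HomSplitLocal.Ff.of_flat_surjective l h) _
      (⟨inferInstance, inferInstance⟩ : HomSplitLocal.Ff u (Red.geomPt s))
    rwa [geomPt_closedPoint] at h2))
  subst htop
  have hff : HomSplitLocal.Ff u (𝟙 S) := by simpa using hUι.comp (S.topIso.inv)
  have hinj : HomMonoLocus.Inj u (𝟙 S) := inj_of_geomFibres hH hQ u fun s => by have := h s; infer_instance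
  let u' : pullback H.hom (𝟙 S) ⟶ pullback Q.hom (𝟙 S) := ((Over.pullback (𝟙 S)).map u).left
  haveI : Mono u' := HomMonoLocus.mono_of_inj hinj
  haveI : Flat u' := hff.1
  haveI : Surjective u' := hff.2
  have hu : u.left = inv (pullback.fst H.hom (𝟙 S)) ≫ u' ≫ pullback.fst Q.hom (𝟙 S) := by
    rw [IsIso.eq_inv_comp]
    exact (pullback.lift_fst _ _ _).symm
  haveI : Mono u.left := by rw [hu]; infer_instance
  haveI : Flat u.left := by rw [hu]; infer_instance
  haveI : Surjective u.left := by rw [hu]; infer_instance
  haveI : LocallyOfFinitePresentation (u.left ≫ Q.hom) := by rw [Over.w]; exact MultTypeLfp.lfp hH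
  haveI := MultTypeLfp.lfp hQ
  haveI : LocallyOfFinitePresentation u.left := S12442.locallyOfFinitePresentation_of_comp _ Q.hom
  haveI : IsOpenImmersion u.left := IsOpenImmersion.of_flat_of_mono _
  haveI : IsIso u.left := (isIso_iff_isOpenImmersion_and_epi_base _).2
    ⟨inferInstance, (TopCat.epi_iff_surjective _).2 u.left.surjective⟩
  haveI : IsIso ((Over.forget S).map u) := ‹IsIso u.left›
  exact isIso_of_reflects_iso u (Over.forget S)

end Groth.Agent.TorusQI
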