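import Groth.Agent.TorusQI.Geom
import Groth.Agent.TorusQI.FibreIso
import Groth.Agent.TorusQI.Torus
import Mathlib.LinearAlgebra.Dimension.RankNullity

/-!
# Maximal split subtori
-/

universe u

open CategoryTheory CategoryTheory.Limits MonoidalCategory CartesianMonoidalCategory MonObj GrpObj AlgebraicGeometry
open Groth.Agent.HomRepLib Groth.Agent.DSPtsLib Groth.Agent.GrpSchLib

namespace Groth.Agent.TorusQI

set_option backward.isDefEq.respectTransparency.types false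

variable {S : Scheme.{u}}

/-- A monomorphism from a diagonalisable group to another over a point bounds the rank. -/
theorem le_finrank_of_mono [Nonempty S] [Subsingleton S] {M : Type} [AddCommGroup M] [AddGroup.FG M] {r : ℕ}
    {A B : Over S} [GrpObj A] [GrpObj B] (hA : Red.IsSplitTorusWith (Fin r → ℤ) A)
    (eB : Grp.mk B ≅ Grp.mk (Red.DS S M)) (f : A ⟶ B) [IsMonHom f] [Mono f] : r ≤ Module.finrank ℤ M := by
  obtain ⟨eA⟩ := hA
  let a : Red.DS S (Fin r → ℤ) ⟶ A := eA.inv.hom.hom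
  let b : B ⟶ Red.DS S M := eB.hom.hom.hom
  haveI : IsMonHom a := eA.inv.hom.isMonHom_hom
  haveI : IsMonHom b := eB.hom.hom.isMonHom_hom
  haveI : IsIso a := ⟨eA.hom.hom.hom, congrArg (fun k => k.hom.hom) eA.inv_hom_id,
    congrArg (fun k => k.hom.hom) eA.hom_inv_id⟩
  haveI : IsIso b := ⟨eB.inv.hom.hom, congrArg (fun k => k.hom.hom) eB.hom_inv_id,
    congrArg (fun k => k.hom.hom) eB.inv_hom_id⟩
  obtain ⟨ψ, hψ, -⟩ := exists_surjective_of_mono (a ≫ f ≫ b)
  haveI : Module.Finite ℤ M := Module.Finite.iff_addGroup_fg.mpr ‹_›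
  have h := LinearMap.finrank_range_le ψ.toIntLinearMap
  rw [LinearMap.range_eq_top.mpr hψ, finrank_top, Module.finrank_fin_fun] at h
  exact h

/-- A group of multiplicative type has a maximal split subtorus. -/
theorem exists_maximal_split {G : Over S} [GrpObj G] (hG : SGA3x.IsMultTypeFT G) :
    ∃ (T : Over S) (_ : GrpObj T) (j : T ⟶ G) (r : ℕ), IsMonHom j ∧ Mono j ∧
      Red.IsSplitTorusWith (Fin r → ℤ) T ∧
      ∀ (T' : Over S) [GrpObj T'] (j' : T' ⟶ G) [IsMonHom j'] [Mono j'] (r' : ℕ) (g : T ⟶ T'),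
        Red.IsSplitTorusWith (Fin r' → ℤ) T' → g ≫ j' = j → IsIso g := by
  classical
  let T₀ : Over S := Red.DS S (Fin 0 → ℤ)
  haveI : Mono (1 : T₀ ⟶ G) := ⟨fun a b _ => ev_ext fun m => by
    rw [Subsingleton.elim m 0, ev_zero, ev_zero]⟩
  haveI : IsMonHom (1 : T₀ ⟶ G) :=
    { one_hom := by rw [MonObj.comp_one, Hom.one_def, toUnit_unique (toUnit _) (𝟙 _), Category.id_comp]
      mul_hom := by
        rw [MonObj.comp_one, show ((1 : T₀ ⟶ G) ⊗ₘ (1 : T₀ ⟶ G)) ≫ μ[G] =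
            (fst T₀ T₀ ≫ (1 : T₀ ⟶ G)) * (snd T₀ T₀ ≫ (1 : T₀ ⟶ G)) from by
          rw [Hom.mul_def]; congr 1]
        rw [MonObj.comp_one, MonObj.comp_one, _root_.mul_one] }
  by_cases hne : Nonempty ↥S
  · obtain ⟨s⟩ := hne
    let P : ℕ → Prop := fun r => ∃ (T : Over S) (_ : GrpObj T) (j : T ⟶ G), IsMonHom j ∧ Mono j ∧
      Red.IsSplitTorusWith (Fin r → ℤ) T
    haveI : Subsingleton ↥(Spec (CommRingCat.of (AlgebraicClosure (S.residueField s)))) :=
      inferInstanceAs (Subsingleton (PrimeSpectrum (AlgebraicClosure (S.residueField s))))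
    haveI : Nonempty ↥(Spec (CommRingCat.of (AlgebraicClosure (S.residueField s)))) :=
      inferInstanceAs (Nonempty (PrimeSpectrum (AlgebraicClosure (S.residueField s))))
    have hsplit : ∀ {r : ℕ} {T : Over S} [GrpObj T], Red.IsSplitTorusWith (Fin r → ℤ) T →
        Red.IsSplitTorusWith (Fin r → ℤ) (Red.bc (Red.geomPt s) T) := fun {r T} _ h => by
      obtain ⟨e⟩ := h
      obtain ⟨e₁⟩ := MultTypeBC.bc_iso (Red.geomPt s) e
      obtain ⟨e₂⟩ := MultTypeBC.bc_DS (Red.geomPt s) (Fin r → ℤ)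
      exact ⟨e₁ ≪≫ e₂⟩
    obtain ⟨M, iM, hM, ⟨eG⟩⟩ := exists_diag_geom hG (Red.geomPt s)
    have hb : ∀ r, P r → r ≤ Module.finrank ℤ M := by
      rintro r ⟨T, _, j, _, _, h⟩
      exact le_finrank_of_mono (hsplit h) eG ((Over.pullback (Red.geomPt s)).map j)
    have h0 : P 0 := ⟨T₀, inferInstance, 1, inferInstance, inferInstance, ⟨Iso.refl _⟩⟩
    obtain ⟨r, ⟨T, iT, j, hj, hjm, hT⟩, hmax⟩ : ∃ r, P r ∧ ∀ r', P r' → r' ≤ r :=
      ⟨Nat.findGreatest P (Module.finrank ℤ M), Nat.findGreatest_spec (Nat.zero_le _) h0,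
        fun r' h => Nat.le_findGreatest (hb r' h) h⟩
    refine ⟨T, iT, j, r, hj, hjm, hT, fun T' _ j' _ _ r' g hT' hg => ?_⟩
    haveI := hj
    haveI := hjm
    haveI : IsMonHom g :=
      { one_hom := by rw [← cancel_mono j', Category.assoc, hg, IsMonHom.one_hom j, IsMonHom.one_hom j']
        mul_hom := by
          rw [← cancel_mono j', Category.assoc, Category.assoc, hg, IsMonHom.mul_hom j, IsMonHom.mul_hom j',
            MonoidalCategory.tensorHom_comp_tensorHom_assoc, hg] }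
    haveI : Mono (g ≫ j') := by rw [hg]; exact hjm
    haveI : Mono g := mono_of_mono g j'
    haveI : AddGroup.FG (Fin r' → ℤ) := Module.Finite.iff_addGroup_fg.1 inferInstance
    have hle : r ≤ r' := by
      obtain ⟨e'⟩ := hsplit hT'
      have := le_finrank_of_mono (hsplit hT) e' ((Over.pullback (Red.geomPt s)).map g)
      rwa [Module.finrank_fin_fun] at this
    obtain rfl : r' = r := le_antisymm (hmax r' ⟨T', inferInstance, j', inferInstance, inferInstance, hT'⟩) hle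
    haveI : AddGroup.FG (Fin r' → ℤ) := Module.Finite.iff_addGroup_fg.1 inferInstance
    have htorus : ∀ {X : Over S} [GrpObj X], Red.IsSplitTorusWith (Fin r' → ℤ) X → SGA3x.IsMultTypeFT X :=
      fun {X} _ h => isMultTypeFT_of_isTorus ⟨S, 𝟙 S, inferInstance, inferInstance,
        fun V hV => ⟨V, hV.isCompact, Set.image_id _⟩, fun _ => ⟨⊤, trivial, r', by
          obtain ⟨e⟩ := h
          obtain ⟨e₁⟩ := MultTypeBC.bc_iso ((⊤ : S.Opens).ι ≫ 𝟙 S) e
          obtain ⟨e₂⟩ := MultTypeBC.bc_DS ((⊤ : S.Opens).ι ≫ 𝟙 S) (Fin r' → ℤ)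
          exact ⟨e₁ ≪≫ e₂⟩⟩⟩
    refine isIso_of_geomFibres (htorus hT) (htorus hT') g fun t => ?_
    haveI : Subsingleton ↥(Spec (CommRingCat.of (AlgebraicClosure (S.residueField t)))) :=
      inferInstanceAs (Subsingleton (PrimeSpectrum (AlgebraicClosure (S.residueField t))))
    haveI : Nonempty ↥(Spec (CommRingCat.of (AlgebraicClosure (S.residueField t)))) :=
      inferInstanceAs (Nonempty (PrimeSpectrum (AlgebraicClosure (S.residueField t))))
    obtain ⟨e⟩ := hT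
    obtain ⟨e'⟩ := hT'
    obtain ⟨e₁⟩ := MultTypeBC.bc_iso (Red.geomPt t) e
    obtain ⟨e₂⟩ := MultTypeBC.bc_iso (Red.geomPt t) e'
    obtain ⟨e₃⟩ := MultTypeBC.bc_DS (Red.geomPt t) (Fin r' → ℤ)
    exact isIso_of_mono_split ⟨e₁ ≪≫ e₃⟩ ⟨e₂ ≪≫ e₃⟩ _
  · haveI : IsEmpty ↥S := not_nonempty_iff.mp hne
    refine ⟨T₀, inferInstance, 1, 0, inferInstance, inferInstance, ⟨Iso.refl _⟩, fun T' _ j' _ _ r' g _ _ => ?_⟩
    haveI : IsEmpty ↥T₀.left := ⟨fun x => isEmptyElim (T₀.hom x)⟩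
    haveI : IsEmpty ↥T'.left := ⟨fun x => isEmptyElim (T'.hom x)⟩
    haveI : IsIso g.left := isIso_of_isEmpty g.left
    haveI : IsIso ((Over.forget S).map g) := ‹IsIso g.left›
    exact isIso_of_reflects_iso g (Over.forget S)

end Groth.Agent.TorusQI
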