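import Groth.Agent.TorusQI.KerImage
import Groth.Agent.TorusQI.MaxSplit
import Mathlib.LinearAlgebra.Dimension.Finrank

/-!
# Split and locally split subtori of groups of multiplicative type

They form directed families.
-/

universe u

open CategoryTheory CategoryTheory.Limits MonoidalCategory CartesianMonoidalCategory MonObj GrpObj AlgebraicGeometry
open Groth.Agent.HomRepLib Groth.Agent.DSPtsLib Groth.Agent.GrpSchLib

namespace Groth.Agent.TorusQI

set_option backward.isDefEq.respectTransparency.types false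
set_option maxHeartbeats 400000

variable {S : Scheme.{u}}

theorem isMonHom_of_pts {A B : Over S} [GrpObj A] [GrpObj B] (a : A ⟶ B)
    (h : ∀ (Y : Over S) (x y : Y ⟶ A), (x * y) ≫ a = (x ≫ a) * (y ≫ a)) : IsMonHom a := by
  constructor
  · have h1 := h (𝟙_ (Over S)) 1 1
    rw [_root_.one_mul] at h1
    rw [show η[A] = (1 : 𝟙_ (Over S) ⟶ A) from (by
        rw [Hom.one_def, toUnit_unique (toUnit _) (𝟙 _), Category.id_comp]),
      show η[B] = (1 : 𝟙_ (Over S) ⟶ B) from (by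
        rw [Hom.one_def, toUnit_unique (toUnit _) (𝟙 _), Category.id_comp])]
    exact left_eq_mul.1 h1
  · rw [show μ[A] = fst _ _ * snd _ _ from (by rw [Hom.mul_def, lift_fst_snd, Category.id_comp]),
      show (a ⊗ₘ a) ≫ μ[B] = (fst _ _ ≫ a) * (snd _ _ ≫ a) from (by rw [Hom.mul_def]; congr 1)]
    exact h _ _ _

/-- The product of diagonalisable groups. -/
theorem nonempty_DS_prod (M N : Type) [AddCommGroup M] [AddCommGroup N] :
    Nonempty (Grp.mk (Red.DS S M ⊗ Red.DS S N) ≅ Grp.mk (Red.DS S (M × N))) := by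
  let p1 := Red.DSmap S (AddMonoidHom.inl M N)
  let p2 := Red.DSmap S (AddMonoidHom.inr M N)
  haveI : IsMonHom p1 := S5427.isMonHom_DSmap S _
  haveI : IsMonHom p2 := S5427.isMonHom_DSmap S _
  let a : Red.DS S (M × N) ⟶ Red.DS S M ⊗ Red.DS S N := lift p1 p2
  haveI : IsMonHom a := isMonHom_of_pts a fun Y x y => by
    refine CartesianMonoidalCategory.hom_ext _ _ ?_ ?_
    · rw [Category.assoc, lift_fst, MonObj.mul_comp x y p1, MonObj.mul_comp _ _ (fst _ _), Category.assoc, Category.assoc,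
        lift_fst]
    · rw [Category.assoc, lift_snd, MonObj.mul_comp x y p2, MonObj.mul_comp _ _ (snd _ _), Category.assoc, Category.assoc,
        lift_snd]
  obtain ⟨b, hb⟩ := exists_ev (S := S) (X := Red.DS S M ⊗ Red.DS S N) (M := M × N)
    { toFun := fun m => ev (fst (Red.DS S M) (Red.DS S N)) (Multiplicative.toAdd m).1 *
        ev (snd (Red.DS S M) (Red.DS S N)) (Multiplicative.toAdd m).2
      map_one' := by simp [ev_zero]
      map_mul' := fun x y => by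
        simp only [toAdd_mul, Prod.fst_add, Prod.snd_add, ev_add]
        exact mul_mul_mul_comm _ _ _ _ }
  have h1 : a ≫ b = 𝟙 _ := ev_ext fun m => by
    rw [ev_comp, hb]
    show a.left.appTop.hom (ev (fst _ _) m.1 * ev (snd _ _) m.2) = _
    rw [map_mul, ← ev_comp, ← ev_comp, lift_fst, lift_snd, ← Category.id_comp p1, ← Category.id_comp p2, ev_DSmap,
      ev_DSmap, ← ev_add]
    simp
  have h2 : b ≫ a = 𝟙 _ := by
    refine CartesianMonoidalCategory.hom_ext _ _ (ev_ext fun m => ?_) (ev_ext fun n => ?_)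
    · rw [Category.assoc, lift_fst, ev_DSmap, hb, Category.id_comp]
      simp [ev_zero]
    · rw [Category.assoc, lift_snd, ev_DSmap, hb, Category.id_comp]
      simp [ev_zero]
  haveI : IsMonHom (Iso.mk a b h1 h2).hom := ‹IsMonHom a›
  exact ⟨(Grp.mkIso' (Iso.mk a b h1 h2)).symm⟩

/-- Base change commutes with products. -/
theorem nonempty_bc_prod {U : Scheme.{u}} (g : U ⟶ S) (A B : Over S) [GrpObj A] [GrpObj B] :
    Nonempty (Grp.mk (Red.bc g (A ⊗ B)) ≅ Grp.mk (Red.bc g A ⊗ Red.bc g B)) := by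
  let p1 : Red.bc g (A ⊗ B) ⟶ Red.bc g A := (Over.pullback g).map (fst A B)
  let p2 : Red.bc g (A ⊗ B) ⟶ Red.bc g B := (Over.pullback g).map (snd A B)
  haveI : IsMonHom p1 := inferInstanceAs (IsMonHom ((Over.pullback g).map (fst A B)))
  haveI : IsMonHom p2 := inferInstanceAs (IsMonHom ((Over.pullback g).map (snd A B)))
  let a : Red.bc g (A ⊗ B) ⟶ Red.bc g A ⊗ Red.bc g B := lift p1 p2
  haveI : IsMonHom a := isMonHom_of_pts a fun Y x y => by
    refine CartesianMonoidalCategory.hom_ext _ _ ?_ ?_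
    · rw [Category.assoc, lift_fst, MonObj.mul_comp x y p1, MonObj.mul_comp _ _ (fst _ _), Category.assoc, Category.assoc,
        lift_fst]
    · rw [Category.assoc, lift_snd, MonObj.mul_comp x y p2, MonObj.mul_comp _ _ (snd _ _), Category.assoc, Category.assoc,
        lift_snd]
  obtain ⟨b, hb⟩ := (theta_bijective g).surjective
    (lift (theta g (fst (Red.bc g A) (Red.bc g B))) (theta g (snd (Red.bc g A) (Red.bc g B))))
  have h1 : a ≫ b = 𝟙 _ := (theta_bijective g).injective (by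
    rw [theta_comp, hb]
    refine CartesianMonoidalCategory.hom_ext _ _ ?_ ?_
    · rw [Category.assoc, lift_fst, ← theta_comp, lift_fst, ← Category.id_comp p1]
      exact HomUnitLocus.theta_comp_map g _ _ _
    · rw [Category.assoc, lift_snd, ← theta_comp, lift_snd, ← Category.id_comp p2]
      exact HomUnitLocus.theta_comp_map g _ _ _)
  have h2 : b ≫ a = 𝟙 _ := by
    refine CartesianMonoidalCategory.hom_ext _ _ ((theta_bijective g).injective ?_) ((theta_bijective g).injective ?_)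
    · rw [Category.assoc, lift_fst, HomUnitLocus.theta_comp_map, hb, lift_fst, Category.id_comp]
    · rw [Category.assoc, lift_snd, HomUnitLocus.theta_comp_map, hb, lift_snd, Category.id_comp]
  haveI : IsMonHom (Iso.mk a b h1 h2).hom := ‹IsMonHom a›
  exact ⟨Grp.mkIso' (Iso.mk a b h1 h2)⟩

/-- A product of split tori is a split torus. -/
theorem exists_split_prod {A B : Over S} [GrpObj A] [GrpObj B] {a b : ℕ} (hA : Red.IsSplitTorusWith (Fin a → ℤ) A)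
    (hB : Red.IsSplitTorusWith (Fin b → ℤ) B) : ∃ n, Red.IsSplitTorusWith (Fin n → ℤ) (A ⊗ B) := by
  obtain ⟨eA⟩ := hA
  obtain ⟨eB⟩ := hB
  let x : A ⟶ Red.DS S (Fin a → ℤ) := eA.hom.hom.hom
  let y : B ⟶ Red.DS S (Fin b → ℤ) := eB.hom.hom.hom
  haveI : IsMonHom x := eA.hom.hom.isMonHom_hom
  haveI : IsMonHom y := eB.hom.hom.isMonHom_hom
  haveI : IsIso x := ⟨eA.inv.hom.hom, congrArg (fun k => k.hom.hom) eA.hom_inv_id,
    congrArg (fun k => k.hom.hom) eA.inv_hom_id⟩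
  haveI : IsIso y := ⟨eB.inv.hom.hom, congrArg (fun k => k.hom.hom) eB.hom_inv_id,
    congrArg (fun k => k.hom.hom) eB.inv_hom_id⟩
  haveI : IsMonHom (asIso (x ⊗ₘ y)).hom := inferInstanceAs (IsMonHom (x ⊗ₘ y))
  obtain ⟨e₂⟩ := nonempty_DS_prod (S := S) (Fin a → ℤ) (Fin b → ℤ)
  let φ : ((Fin a → ℤ) × (Fin b → ℤ)) ≃+ (Fin (Module.finrank ℤ ((Fin a → ℤ) × (Fin b → ℤ))) → ℤ) :=
    (Module.finBasis ℤ ((Fin a → ℤ) × (Fin b → ℤ))).equivFun.toAddEquiv
  obtain ⟨e₃⟩ := nonempty_DS_congr (S := S) φ.symm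
  exact ⟨_, ⟨Grp.mkIso' (asIso (x ⊗ₘ y)) ≪≫ e₂ ≪≫ e₃⟩⟩

/-- Zariski locally a split torus. -/
def IsLocSplit (E : Over S) [GrpObj E] : Prop :=
  ∀ s : ↥S, ∃ U : S.Opens, s ∈ U ∧ ∃ r : ℕ, Red.IsSplitTorusWith (Fin r → ℤ) (Red.bc U.ι E)

theorem isLocSplit_prod {A B : Over S} [GrpObj A] [GrpObj B] (hA : IsLocSplit A) (hB : IsLocSplit B) :
    IsLocSplit (A ⊗ B) := fun s => by
  obtain ⟨U, hU, a, ⟨eA⟩⟩ := hA s
  obtain ⟨V, hV, b, ⟨eB⟩⟩ := hB s
  let lU := S.homOfLE (inf_le_left : U ⊓ V ≤ U)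
  let lV := S.homOfLE (inf_le_right : U ⊓ V ≤ V)
  obtain ⟨a₁⟩ := MultTypeBC.bc_bc lU U.ι A
  obtain ⟨a₂⟩ := MultTypeBC.bc_congr (S.homOfLE_ι (inf_le_left : U ⊓ V ≤ U)) A
  obtain ⟨a₃⟩ := MultTypeBC.bc_iso lU eA
  obtain ⟨a₄⟩ := MultTypeBC.bc_DS lU (Fin a → ℤ)
  obtain ⟨b₁⟩ := MultTypeBC.bc_bc lV V.ι B
  obtain ⟨b₂⟩ := MultTypeBC.bc_congr (S.homOfLE_ι (inf_le_right : U ⊓ V ≤ V)) B
  obtain ⟨b₃⟩ := MultTypeBC.bc_iso lV eB
  obtain ⟨b₄⟩ := MultTypeBC.bc_DS lV (Fin b → ℤ)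
  obtain ⟨n, ⟨e⟩⟩ := exists_split_prod (A := Red.bc (U ⊓ V).ι A) (B := Red.bc (U ⊓ V).ι B)
    ⟨a₂.symm ≪≫ a₁.symm ≪≫ a₃ ≪≫ a₄⟩ ⟨b₂.symm ≪≫ b₁.symm ≪≫ b₃ ≪≫ b₄⟩
  obtain ⟨e₁⟩ := nonempty_bc_prod (U ⊓ V).ι A B
  exact ⟨U ⊓ V, ⟨hU, hV⟩, n, ⟨e₁ ≪≫ e⟩⟩

theorem isTorus_of_locSplit {E : Over S} [GrpObj E] (h : IsLocSplit E) : Red.IsTorus E := by
  refine ⟨S, 𝟙 S, inferInstance, inferInstance, fun V hV => ⟨V, hV.isCompact, Set.image_id _⟩, fun s => ?_⟩
  obtain ⟨U, hU, r, ⟨e⟩⟩ := h s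
  obtain ⟨e₁⟩ := MultTypeBC.bc_congr (Category.comp_id U.ι) E
  exact ⟨U, hU, r, ⟨e₁ ≪≫ e⟩⟩

theorem isLocSplit_of_split {E : Over S} [GrpObj E] {r : ℕ} (h : Red.IsSplitTorusWith (Fin r → ℤ) E) :
    IsLocSplit E := fun _ => by
  obtain ⟨e⟩ := h
  obtain ⟨e₁⟩ := MultTypeBC.bc_iso (⊤ : S.Opens).ι e
  obtain ⟨e₂⟩ := MultTypeBC.bc_DS (⊤ : S.Opens).ι (Fin r → ℤ)
  exact ⟨⊤, trivial, r, ⟨e₁ ≪≫ e₂⟩⟩

variable {G : Over S} [GrpObj G]

/-- The image of a locally split torus is a locally split subtorus, split over a connected base if the torus is. -/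
theorem exists_torus_image (hG : SGA3x.IsMultTypeFT G) {E : Over S} [GrpObj E] (hE : IsLocSplit E) (u : E ⟶ G)
    [IsMonHom u] :
    ∃ (Q : Over S) (_ : GrpObj Q) (j : Q ⟶ G) (q : E ⟶ Q), IsMonHom j ∧ Mono j ∧ IsMonHom q ∧ IsLocSplit Q ∧
      (∀ r : ℕ, ConnectedSpace ↥S → Red.IsSplitTorusWith (Fin r → ℤ) E →
        ∃ r', Red.IsSplitTorusWith (Fin r' → ℤ) Q) ∧ q ≫ j = u := by
  have hEm := isMultTypeFT_of_isTorus (isTorus_of_locSplit hE)
  obtain ⟨K, iK, i, hi, him, hK, hker⟩ := exists_kernel hEm hG u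
  obtain ⟨Q, iQ, j, q, hj, hjm, hq, hqc, -, hqj⟩ := exists_image hEm hG u
  haveI := hi
  haveI := him
  haveI := hjm
  haveI := hq
  have hc := isCosetMap_of_mono i u hker q j hqj
  refine ⟨Q, iQ, j, q, hj, hjm, hq, fun s => locallySplit_quot hE hK i q hc hqc s, fun r _ hr => ?_, hqj⟩
  obtain ⟨r', -, h⟩ := split_quot hr hK i q hc hqc
  exact ⟨r', h⟩

/-- Any two locally split subtori are contained in a third one. -/
theorem exists_locSplit_ge (hG : SGA3x.IsMultTypeFT G) {E₁ E₂ : Over S} [GrpObj E₁] [GrpObj E₂]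
    (j₁ : E₁ ⟶ G) [IsMonHom j₁] (j₂ : E₂ ⟶ G) [IsMonHom j₂] (h₁ : IsLocSplit E₁) (h₂ : IsLocSplit E₂) :
    ∃ (E₃ : Over S) (_ : GrpObj E₃) (j₃ : E₃ ⟶ G) (g₁ : E₁ ⟶ E₃) (g₂ : E₂ ⟶ E₃), IsMonHom j₃ ∧ Mono j₃ ∧
      IsLocSplit E₃ ∧
      (∀ r₁ r₂ : ℕ, ConnectedSpace ↥S → Red.IsSplitTorusWith (Fin r₁ → ℤ) E₁ →
        Red.IsSplitTorusWith (Fin r₂ → ℤ) E₂ → ∃ r, Red.IsSplitTorusWith (Fin r → ℤ) E₃) ∧
      g₁ ≫ j₃ = j₁ ∧ g₂ ≫ j₃ = j₂ := by
  let u : E₁ ⊗ E₂ ⟶ G := (fst E₁ E₂ ≫ j₁) * (snd E₁ E₂ ≫ j₂)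
  haveI : IsMonHom u := isMonHom_of_pts u fun Y x y => by
    simp only [u, MonObj.comp_mul, MonObj.mul_comp _ _ (fst E₁ E₂ ≫ j₁), MonObj.mul_comp _ _ (snd E₁ E₂ ≫ j₂)]
    have key : ∀ a b c d : Y ⟶ G, a * b * (c * d) = a * c * (b * d) := fun a b c d => by
      rw [_root_.mul_assoc, ← _root_.mul_assoc b c, mul_comm_of_multType hG Y b c, _root_.mul_assoc c,
        ← _root_.mul_assoc]
    exact key _ _ _ _
  obtain ⟨Q, iQ, j, q, hj, hjm, -, hQ, hsplit, hqj⟩ := exists_torus_image hG (isLocSplit_prod h₁ h₂) u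
  refine ⟨Q, iQ, j, lift (𝟙 E₁) 1 ≫ q, lift 1 (𝟙 E₂) ≫ q, hj, hjm, hQ, fun r₁ r₂ hc hr₁ hr₂ => ?_, ?_, ?_⟩
  · obtain ⟨n, hn⟩ := exists_split_prod hr₁ hr₂
    exact hsplit n hc hn
  · rw [Category.assoc, hqj]
    simp only [u, MonObj.comp_mul, lift_fst_assoc, lift_snd_assoc, Category.id_comp, MonObj.one_comp j₂,
      _root_.mul_one]
  · rw [Category.assoc, hqj]
    simp only [u, MonObj.comp_mul, lift_fst_assoc, lift_snd_assoc, Category.id_comp, MonObj.one_comp j₁,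
      _root_.one_mul]

/-- Over a connected base a locally split torus has constant rank. -/
theorem exists_const_rank [ConnectedSpace ↥S] {E : Over S} [GrpObj E] (hE : IsLocSplit E) :
    ∃ r : ℕ, ∀ s : ↥S, Red.IsSplitTorusWith (Fin r → ℤ) (Red.geomFibre s E) := by
  choose r hr using fun s : ↥S => exists_split_geom (isTorus_of_locSplit hE) (Red.geomPt s)
  have hloc : IsLocallyConstant r := by
    rw [IsLocallyConstant.iff_exists_open]
    intro s
    obtain ⟨U, hU, n, ⟨e⟩⟩ := hE s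
    have key : ∀ t ∈ U, r t = n := fun t ht => by
      haveI : Subsingleton ↥(Spec (CommRingCat.of (AlgebraicClosure (S.residueField t)))) :=
        inferInstanceAs (Subsingleton (PrimeSpectrum (AlgebraicClosure (S.residueField t))))
      haveI : Nonempty ↥(Spec (CommRingCat.of (AlgebraicClosure (S.residueField t)))) :=
        inferInstanceAs (Nonempty (PrimeSpectrum (AlgebraicClosure (S.residueField t))))
      let b : Spec (CommRingCat.of (AlgebraicClosure (S.residueField t))) ⟶ (U : Scheme.{u}) :=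
        IsOpenImmersion.lift U.ι (Red.geomPt t) (by
          rw [Scheme.Opens.range_ι]
          rintro _ ⟨z, rfl⟩
          rw [Subsingleton.elim z (IsLocalRing.closedPoint _), geomPt_closedPoint]
          exact ht)
      obtain ⟨e₁⟩ := MultTypeBC.bc_bc b U.ι E
      obtain ⟨e₂⟩ := MultTypeBC.bc_congr
        (show b ≫ U.ι = Red.geomPt t from IsOpenImmersion.lift_fac _ _ _) E
      obtain ⟨e₃⟩ := MultTypeBC.bc_iso b e
      obtain ⟨e₄⟩ := MultTypeBC.bc_DS b (Fin n → ℤ)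
      obtain ⟨e'⟩ := hr t
      haveI : AddGroup.FG (Fin n → ℤ) := Module.Finite.iff_addGroup_fg.1 inferInstance
      haveI : AddGroup.FG (Fin (r t) → ℤ) := Module.Finite.iff_addGroup_fg.1 inferInstance
      obtain ⟨φ⟩ := nonempty_addEquiv (e'.symm ≪≫ e₂.symm ≪≫ e₁.symm ≪≫ e₃ ≪≫ e₄)
      simpa using φ.toIntLinearEquiv.finrank_eq
    exact ⟨U, U.2, hU, fun t ht => (key t ht).trans (key s hU).symm⟩
  obtain ⟨s₀⟩ := (inferInstance : Nonempty ↥S)
  exact ⟨r s₀, fun s => hloc.apply_eq_of_preconnectedSpace s₀ s ▸ hr s⟩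

end Groth.Agent.TorusQI
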