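import Groth.Agent.TorusQI.SplitSubgroup

/-!
# Quotients of diagonalisable groups by subgroups of multiplicative type

Locally on the base, in open and closed pieces, they are diagonalisable.
-/

universe u

open CategoryTheory CategoryTheory.Limits MonoidalCategory CartesianMonoidalCategory MonObj GrpObj AlgebraicGeometry
open Groth.Agent.HomRepLib Groth.Agent.DSPtsLib Groth.Agent.GrpSchLib

namespace Groth.Agent.TorusQI

set_option backward.isDefEq.respectTransparency.types false
set_option maxHeartbeats 400000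

variable {S : Scheme.{u}} {G H Q : Over S} [GrpObj G] [GrpObj H] [GrpObj Q]

/-- Coset maps are stable by base change. -/
theorem isCosetMap_bc {i : H ⟶ G} {q : G ⟶ Q} (hc : FpqcDescLib.IsCosetMap i q) {U : Scheme.{u}} (g : U ⟶ S) :
    FpqcDescLib.IsCosetMap ((Over.pullback g).map i) ((Over.pullback g).map q) := fun Y a b => by
  constructor
  · intro h
    obtain ⟨y, hy⟩ := (hc _ _ _).1 (show theta g a ≫ q = theta g b ≫ q by
      rw [← HomUnitLocus.theta_comp_map, ← HomUnitLocus.theta_comp_map]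
      exact congrArg (theta g) h)
    obtain ⟨y', rfl⟩ := (theta_bijective g).surjective y
    refine ⟨y', (theta_bijective g).injective ?_⟩
    rw [hy]
    exact ((theta_mul g a (y' ≫ (Over.pullback g).map i)).trans
      (congrArg (theta g a * ·) (HomUnitLocus.theta_comp_map g _ y' i))).symm
  · rintro ⟨y, rfl⟩
    refine (theta_bijective g).injective ?_
    rw [HomUnitLocus.theta_comp_map, HomUnitLocus.theta_comp_map]
    exact (hc _ _ _).2 ⟨theta g y, (theta_mul g a (y ≫ (Over.pullback g).map i)).trans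
      (congrArg (theta g a * ·) (HomUnitLocus.theta_comp_map g _ y i))⟩

/-- Coset maps are transported by isomorphisms of groups. -/
theorem isCosetMap_iso {i : H ⟶ G} {q : G ⟶ Q} (hc : FpqcDescLib.IsCosetMap i q) {G' : Over S} [GrpObj G']
    (e : G' ⟶ G) [IsMonHom e] [IsIso e] : FpqcDescLib.IsCosetMap (i ≫ inv e) (e ≫ q) := fun Y a b => by
  rw [← Category.assoc, ← Category.assoc, hc]
  refine exists_congr fun y => ?_
  rw [← cancel_mono e (g := b), MonObj.mul_comp, Category.assoc, Category.assoc, IsIso.inv_hom_id, Category.comp_id]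

/-- Two quotient maps with the same fibres have isomorphic targets. -/
theorem quot_unique {Q' : Over S} [GrpObj Q'] (p : G ⟶ Q) [IsMonHom p] (hp : FpqcDescLib.Covers p.left)
    (p' : G ⟶ Q') [IsMonHom p'] (hp' : FpqcDescLib.Covers p'.left)
    (h : ∀ (Y : Over S) (a b : Y ⟶ G), a ≫ p = b ≫ p ↔ a ≫ p' = b ≫ p') :
    Nonempty (Grp.mk Q ≅ Grp.mk Q') := by
  obtain ⟨f, hf, -⟩ := hp.over_desc p' fun Y a b e => (h Y a b).1 e
  obtain ⟨f', hf', -⟩ := hp'.over_desc p fun Y a b e => (h Y a b).2 e
  haveI := hp.over_epi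
  haveI := hp'.over_epi
  haveI : IsMonHom f :=
    { one_hom := by rw [← IsMonHom.one_hom p, Category.assoc, hf, IsMonHom.one_hom p']
      mul_hom := by
        have h1 : Epi (p ▷ G) := (FpqcDescLib.covers_whiskerRight hp G).over_epi
        have h2 : Epi (Q ◁ p) := (FpqcDescLib.covers_whiskerLeft hp Q).over_epi
        have : Epi (p ⊗ₘ p) := by rw [MonoidalCategory.tensorHom_def]; exact epi_comp _ _
        rw [← cancel_epi (p ⊗ₘ p), ← Category.assoc, ← IsMonHom.mul_hom p, Category.assoc, hf,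
          IsMonHom.mul_hom p', tensorHom_comp_tensorHom_assoc, hf] }
  let e : Q ≅ Q' := ⟨f, f', by rw [← cancel_epi p, reassoc_of% hf, hf', Category.comp_id],
    by rw [← cancel_epi p', reassoc_of% hf', hf, Category.comp_id]⟩
  haveI : IsMonHom e.hom := ‹IsMonHom f›
  exact ⟨Grp.mkIso' e⟩

theorem lfp_DSmap {M N : Type} [AddCommGroup M] [AddCommGroup N] [AddGroup.FG M] [AddGroup.FG N] (φ : M →+ N) :
    LocallyOfFinitePresentation (Red.DSmap S φ).left := by
  haveI : LocallyOfFinitePresentation ((Red.DSmap S φ).left ≫ (Red.DS S M).hom) := by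
    rw [Over.w]
    exact MultTypeLfp.lfp (isMultTypeFT_DS N)
  haveI := MultTypeLfp.lfp (isMultTypeFT_DS (S := S) M)
  exact S12442.locallyOfFinitePresentation_of_comp _ (Red.DS S M).hom

/-- A quotient of a diagonalisable group by a subgroup of multiplicative type is diagonalisable on an open and closed
neighbourhood of each point. -/
theorem exists_clopen_quot {M : Type} [AddCommGroup M] [AddGroup.FG M] (e : Grp.mk G ≅ Grp.mk (Red.DS S M))
    (hH : SGA3x.IsMultTypeFT H) (i : H ⟶ G) [IsMonHom i] [Mono i] (q : G ⟶ Q) [IsMonHom q]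
    (hc : FpqcDescLib.IsCosetMap i q) (hq : FpqcDescLib.Covers q.left) (s : S) :
    ∃ (K : AddSubgroup M) (U : S.Opens), s ∈ U ∧ IsClosed (U : Set S) ∧
      Nonempty (Grp.mk (Red.bc U.ι Q) ≅ Grp.mk (Red.DS (U : Scheme.{u}) K)) := by
  let a : Red.DS S M ⟶ G := e.inv.hom.hom
  haveI : IsMonHom a := e.inv.hom.isMonHom_hom
  haveI : IsIso a := ⟨e.hom.hom.hom, congrArg (fun k => k.hom.hom) e.inv_hom_id,
    congrArg (fun k => k.hom.hom) e.hom_inv_id⟩
  haveI : IsMonHom (inv a) := inferInstanceAs (IsMonHom (asIso a).inv)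
  obtain ⟨K, U, hs, hU, h, hhm, hhi, hh⟩ := exists_clopen_diag hH (i ≫ inv a) s
  haveI : AddGroup.FG K := by
    haveI : Module.Finite ℤ M := Module.Finite.iff_addGroup_fg.mpr ‹_›
    exact Module.Finite.iff_addGroup_fg.mp
      (inferInstanceAs (Module.Finite ℤ (AddSubgroup.toIntSubmodule K)))
  obtain ⟨κ, hκm, hκi, hκ⟩ := exists_bcPt U.ι M
  haveI : IsMonHom (inv κ) := inferInstanceAs (IsMonHom (asIso κ).inv)
  let p : Red.DS (U : Scheme.{u}) M ⟶ Red.bc U.ι Q := κ ≫ (Over.pullback U.ι).map (a ≫ q)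
  haveI hpm : IsMonHom p := by show IsMonHom (κ ≫ (Over.pullback U.ι).map (a ≫ q)); infer_instance
  have hp : FpqcDescLib.Covers p.left := by
    have h1 : FpqcDescLib.Covers ((Over.pullback U.ι).map (a ≫ q)).left := by
      haveI : IsIso a.left := Functor.map_isIso (Over.forget _) a
      have h0 : FpqcDescLib.Covers (a ≫ q).left := by
        rw [Over.comp_left]
        exact (FpqcDescLib.covers_of_isCovering (FpqcDescLib.isCovering_of_quasiCompact a.left)).comp hq
      exact h0.pullback _ _ _ (HomSplitLocal.isPullback_map (a ≫ q) U.ι).flip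
    haveI : IsIso κ.left := Functor.map_isIso (Over.forget _) κ
    show FpqcDescLib.Covers (κ ≫ (Over.pullback U.ι).map (a ≫ q)).left
    rw [Over.comp_left]
    exact (FpqcDescLib.covers_of_isCovering (FpqcDescLib.isCovering_of_quasiCompact κ.left)).comp h1
  have hsub : Function.Injective K.subtype := K.subtype_injective
  obtain ⟨hfl, hsurj⟩ := flat_surjective_DSmap (S := (U : Scheme.{u})) K.subtype hsub
  haveI := hfl
  haveI := hsurj
  haveI := lfp_DSmap (S := (U : Scheme.{u})) K.subtype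
  haveI : IsMonHom (Red.DSmap (U : Scheme.{u}) K.subtype) := S5427.isMonHom_DSmap _ _
  have hp' : FpqcDescLib.Covers (Red.DSmap (U : Scheme.{u}) K.subtype).left :=
    FpqcDescLib.covers_of_isCovering (FpqcDescLib.isCovering_of_lfp _)
  have hcU := isCosetMap_iso (isCosetMap_bc (isCosetMap_iso hc a) U.ι) κ
  have hi' : ∀ (Y : Over (U : Scheme.{u})) (y : Y ⟶ Red.bc U.ι H) (m : M),
      ev (y ≫ (Over.pullback U.ι).map (i ≫ inv a) ≫ inv κ) m = ev (y ≫ h) (QuotientAddGroup.mk' K m) :=
    fun Y y m => by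
      rw [← hκ, ← hh, ← HomUnitLocus.theta_comp_map]
      simp
  refine ⟨K, U, hs, hU, quot_unique p hp _ hp' fun Y x y => ?_⟩
  refine (hcU Y x y).trans ⟨?_, fun hxy => ?_⟩
  · rintro ⟨z, rfl⟩
    refine ev_ext fun k => ?_
    rw [ev_DSmap, ev_DSmap, ev_mul, hi']
    rw [show QuotientAddGroup.mk' K (K.subtype k) = 0 from (QuotientAddGroup.eq_zero_iff _).2 k.2, ev_zero,
      _root_.mul_one]
  · obtain ⟨l, hl⟩ := exists_fac_DSmap (π := QuotientAddGroup.mk' K) (QuotientAddGroup.mk'_surjective K) (x⁻¹ * y)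
      fun m hm => by
        have h1 : ev x m = ev y m := by
          have h2 := congrArg (ev · ⟨m, (QuotientAddGroup.eq_zero_iff m).1 hm⟩) hxy
          simpa [ev_DSmap] using h2
        rw [ev_mul, ← h1, ← ev_mul, inv_mul_cancel, ev_one]
    refine ⟨l ≫ inv h, ?_⟩
    have h3 : (l ≫ inv h) ≫ (Over.pullback U.ι).map (i ≫ inv a) ≫ inv κ = x⁻¹ * y :=
      ev_ext fun m => by rw [hi', Category.assoc, IsIso.inv_hom_id, Category.comp_id, ← hl, ev_DSmap]
    rw [h3, mul_inv_cancel_left]

end Groth.Agent.TorusQI
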