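import Groth.Agent.TorusQI.LocalSubgroup
import Groth.Agent.TorusQI.SplitQuotient

/-!
# Kernels and images of homomorphisms of groups of multiplicative type
-/

universe u

open CategoryTheory CategoryTheory.Limits MonoidalCategory CartesianMonoidalCategory MonObj GrpObj AlgebraicGeometry
open Groth.Agent.HomRepLib Groth.Agent.DSPtsLib Groth.Agent.GrpSchLib

namespace Groth.Agent.TorusQI

set_option backward.isDefEq.respectTransparency.types false
set_option maxHeartbeats 400000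

variable {S : Scheme.{u}}

/-- The base change along a composite, on points. -/
theorem exists_bcComp {S₁ V : Scheme.{u}} (v : V ⟶ S₁) (f : S₁ ⟶ S) (X : Over S) [GrpObj X] :
    ∃ a : Red.bc (v ≫ f) X ⟶ Red.bc v (Red.bc f X), IsMonHom a ∧ IsIso a ∧
      ∀ (Y : Over V) (y : Y ⟶ Red.bc (v ≫ f) X),
        (theta f (theta v (y ≫ a))).left = (theta (v ≫ f) y).left := by
  let ε : ∀ Y : Over V, (Over.map f).obj ((Over.map v).obj Y) ≅ (Over.map (v ≫ f)).obj Y :=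
    fun Y => Over.isoMk (Iso.refl _) (by
      show 𝟙 _ ≫ Y.hom ≫ v ≫ f = (Y.hom ≫ v) ≫ f
      rw [Category.id_comp, Category.assoc])
  obtain ⟨a, ha⟩ : ∃ a, theta f (theta v a) = (ε _).hom ≫ theta (v ≫ f) (𝟙 (Red.bc (v ≫ f) X)) := by
    obtain ⟨a₁, ha₁⟩ := (theta_bijective f).surjective ((ε _).hom ≫ theta (v ≫ f) (𝟙 (Red.bc (v ≫ f) X)))
    obtain ⟨a₂, ha₂⟩ := (theta_bijective v).surjective a₁
    exact ⟨a₂, by rw [ha₂, ha₁]⟩
  have haY : ∀ (Y : Over V) (y : Y ⟶ Red.bc (v ≫ f) X),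
      theta f (theta v (y ≫ a)) = (ε Y).hom ≫ theta (v ≫ f) y := fun Y y => by
    rw [theta_comp, theta_comp, ha]
    conv_rhs => rw [← Category.comp_id y, theta_comp]
    rw [← Category.assoc, ← Category.assoc]
    congr 1
  have hainj : ∀ (Y : Over V) (y y' : Y ⟶ Red.bc (v ≫ f) X), y ≫ a = y' ≫ a → y = y' :=
    fun Y y y' hy => (theta_bijective (v ≫ f)).injective ((cancel_epi (ε Y).hom).1 (by rw [← haY, ← haY, hy]))
  haveI : IsMonHom a :=
    { one_hom := by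
        rw [show η[Red.bc (v ≫ f) X] = (1 : 𝟙_ _ ⟶ _) from (by
            rw [Hom.one_def, toUnit_unique (toUnit _) (𝟙 _), Category.id_comp]),
          show η[Red.bc v (Red.bc f X)] = (1 : 𝟙_ _ ⟶ _) from (by
            rw [Hom.one_def, toUnit_unique (toUnit _) (𝟙 _), Category.id_comp])]
        refine (theta_bijective v).injective ((theta_bijective f).injective ?_)
        rw [haY, HomUnitLocus.theta_one, HomUnitLocus.theta_one, HomUnitLocus.theta_one, MonObj.comp_one]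
      mul_hom := by
        rw [show μ[Red.bc (v ≫ f) X] = fst _ _ * snd _ _ from (by rw [Hom.mul_def, lift_fst_snd, Category.id_comp]),
          show (a ⊗ₘ a) ≫ μ[Red.bc v (Red.bc f X)] = (fst _ _ ≫ a) * (snd _ _ ≫ a) from (by
            rw [Hom.mul_def]; congr 1)]
        refine (theta_bijective v).injective ((theta_bijective f).injective ?_)
        rw [haY, theta_mul, theta_mul, theta_mul, haY, haY, MonObj.comp_mul] }
  haveI : IsIso a := by
    obtain ⟨y, hy⟩ := (theta_bijective (v ≫ f)).surjective ((ε (Red.bc v (Red.bc f X))).inv ≫ theta f (theta v (𝟙 _)))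
    have h1 : y ≫ a = 𝟙 _ := (theta_bijective v).injective ((theta_bijective f).injective (by
      rw [haY, hy, Iso.hom_inv_id_assoc]))
    exact ⟨y, hainj _ _ _ (by rw [Category.assoc, h1, Category.comp_id, Category.id_comp]), h1⟩
  exact ⟨a, inferInstance, inferInstance, fun Y y => by
    rw [haY, Over.comp_left]
    exact Category.id_comp _⟩

variable {H G : Over S} [GrpObj H] [GrpObj G]

/-- Etale-locally a homomorphism of groups of multiplicative type is induced by a homomorphism of character groups. -/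
theorem exists_induced_piece (hH : SGA3x.IsMultTypeFT H) (hG : SGA3x.IsMultTypeFT G) (u : H ⟶ G) [IsMonHom u]
    (x : S) :
    ∃ (S' : Scheme.{u}) (f : S' ⟶ S), Etale f ∧ (∃ y, f y = x) ∧
      ∃ (M N : Type) (_ : AddCommGroup M) (_ : AddCommGroup N), AddGroup.FG M ∧ AddGroup.FG N ∧
      ∃ (eH : Red.bc f H ⟶ Red.DS S' M) (eG : Red.bc f G ⟶ Red.DS S' N) (ψ : N →+ M),
        IsMonHom eH ∧ IsIso eH ∧ IsMonHom eG ∧ IsIso eG ∧
        (Over.pullback f).map u ≫ eG = eH ≫ Red.DSmap S' ψ := by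
  obtain ⟨S₁, f₁, hf₁, ⟨y₁, hy₁⟩, M, iM, hM, ⟨e₁⟩⟩ := MultTypeQI.etale_locally_diag hH x
  obtain ⟨S₂, f₂, hf₂, ⟨y₂, hy₂⟩, N, iN, hN, ⟨e₂⟩⟩ :=
    MultTypeQI.etale_locally_diag (MultTypeBC.isMultTypeFT_bc f₁ hG) y₁
  obtain ⟨eG0⟩ := MultTypeBC.bc_bc f₂ f₁ G
  obtain ⟨eH0⟩ := MultTypeBC.bc_bc f₂ f₁ H
  obtain ⟨eH1⟩ := MultTypeBC.bc_iso f₂ e₁
  obtain ⟨eH2⟩ := MultTypeBC.bc_DS f₂ M
  let f : S₂ ⟶ S := f₂ ≫ f₁
  let iH : Grp.mk (Red.bc f H) ≅ Grp.mk (Red.DS S₂ M) := eH0.symm ≪≫ eH1 ≪≫ eH2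
  let iG : Grp.mk (Red.bc f G) ≅ Grp.mk (Red.DS S₂ N) := eG0.symm ≪≫ e₂
  let aH : Red.bc f H ⟶ Red.DS S₂ M := iH.hom.hom.hom
  let bH : Red.DS S₂ M ⟶ Red.bc f H := iH.inv.hom.hom
  let aG : Red.bc f G ⟶ Red.DS S₂ N := iG.hom.hom.hom
  haveI : IsMonHom aH := iH.hom.hom.isMonHom_hom
  haveI : IsMonHom bH := iH.inv.hom.isMonHom_hom
  haveI : IsMonHom aG := iG.hom.hom.isMonHom_hom
  have hHb : aH ≫ bH = 𝟙 _ := congrArg (fun k => k.hom.hom) iH.hom_inv_id
  have hbH : bH ≫ aH = 𝟙 _ := congrArg (fun k => k.hom.hom) iH.inv_hom_id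
  haveI : IsIso aH := ⟨bH, hHb, hbH⟩
  haveI : IsIso aG := ⟨iG.inv.hom.hom, congrArg (fun k => k.hom.hom) iG.hom_inv_id,
    congrArg (fun k => k.hom.hom) iG.inv_hom_id⟩
  haveI := hN
  obtain ⟨ψ, V, hyV, hψ⟩ := exists_induced (bH ≫ (Over.pullback f).map u ≫ aG) y₂
  obtain ⟨cH, hcHm, hcHi, hcH⟩ := exists_bcComp V.ι f H
  obtain ⟨cG, hcGm, hcGi, hcG⟩ := exists_bcComp V.ι f G
  obtain ⟨κM, hκMm, hκMi, hκM⟩ := exists_bcPt V.ι M
  obtain ⟨κN, hκNm, hκNi, hκN⟩ := exists_bcPt V.ι N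
  haveI : IsMonHom (inv κM) := inferInstanceAs (IsMonHom (asIso κM).inv)
  haveI : IsMonHom (inv κN) := inferInstanceAs (IsMonHom (asIso κN).inv)
  let eH : Red.bc (V.ι ≫ f) H ⟶ Red.DS (V : Scheme.{u}) M := cH ≫ (Over.pullback V.ι).map aH ≫ inv κM
  let eG : Red.bc (V.ι ≫ f) G ⟶ Red.DS (V : Scheme.{u}) N := cG ≫ (Over.pullback V.ι).map aG ≫ inv κN
  haveI : Etale f := inferInstanceAs (Etale (f₂ ≫ f₁))
  refine ⟨V, V.ι ≫ f, inferInstance, ⟨⟨y₂, hyV⟩, ?_⟩, M, N, iM, iN, hM, hN, eH, eG, ψ,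
    inferInstanceAs (IsMonHom (cH ≫ (Over.pullback V.ι).map aH ≫ inv κM)),
    inferInstanceAs (IsIso (cH ≫ (Over.pullback V.ι).map aH ≫ inv κM)),
    inferInstanceAs (IsMonHom (cG ≫ (Over.pullback V.ι).map aG ≫ inv κN)),
    inferInstanceAs (IsIso (cG ≫ (Over.pullback V.ι).map aG ≫ inv κN)), ?_⟩
  · show (V.ι ≫ f₂ ≫ f₁) _ = x
    rw [Scheme.Hom.comp_apply, Scheme.Hom.comp_apply]
    exact (congrArg f₁ hy₂).trans hy₁
  have hN : cH ≫ (Over.pullback V.ι).map ((Over.pullback f).map u) = (Over.pullback (V.ι ≫ f)).map u ≫ cG := by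
    refine (theta_bijective V.ι).injective ((theta_bijective f).injective (Over.OverMorphism.ext ?_))
    rw [hcG, HomUnitLocus.theta_comp_map, HomUnitLocus.theta_comp_map, Over.comp_left]
    rw [← Category.id_comp cH, hcH, ← Category.id_comp ((Over.pullback (V.ι ≫ f)).map u),
      HomUnitLocus.theta_comp_map, Over.comp_left]
  refine ev_ext fun n => ?_
  let x' : (Over.map V.ι).obj (Red.bc (V.ι ≫ f) H) ⟶ Red.bc f H := theta V.ι cH
  have hr : Set.range ((Over.map V.ι).obj (Red.bc (V.ι ≫ f) H)).hom ⊆ (V : Set S₂) := by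
    rintro _ ⟨z, rfl⟩
    show (_ ≫ V.ι) z ∈ (V : Set S₂)
    rw [Scheme.Hom.comp_apply]
    exact ((Red.bc (V.ι ≫ f) H).hom z).2
  have hκ : ∀ {W : Type} [AddCommGroup W] (κ : Red.DS (V : Scheme.{u}) W ⟶ Red.bc V.ι (Red.DS S₂ W)) [IsIso κ],
      (∀ (Y : Over (V : Scheme.{u})) (z : Y ⟶ Red.DS (V : Scheme.{u}) W) (m : W),
        ev (theta V.ι (z ≫ κ)) m = ev z m) →
      ∀ (Y : Over (V : Scheme.{u})) (z : Y ⟶ Red.bc V.ι (Red.DS S₂ W)) (m : W),
        ev (z ≫ inv κ) m = ev (theta V.ι z) m := fun κ _ h Y z m => by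
    rw [← h]; simp
  rw [ev_DSmap]
  simp only [eH, eG, ← Category.assoc]
  rw [hκ κN hκN, hκ κM hκM, ← hN, HomUnitLocus.theta_comp_map, HomUnitLocus.theta_comp_map,
    HomUnitLocus.theta_comp_map]
  have h1 : ∀ z : (Over.map V.ι).obj (Red.bc (V.ι ≫ f) H) ⟶ Red.bc f H, z ≫ (Over.pullback f).map u ≫ aG =
      (z ≫ aH) ≫ (bH ≫ (Over.pullback f).map u ≫ aG) := fun z => by rw [Category.assoc, reassoc_of% hHb]
  show ev ((x' ≫ (Over.pullback f).map u) ≫ aG) n = ev (x' ≫ aH) (ψ n)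
  rw [Category.assoc, h1, hψ _ _ hr, ev_DSmap]

/-- A subgroup which is etale-locally diagonalisable is of multiplicative type. -/
theorem isMultTypeFT_of_pieces {T : Over S} [GrpObj T] (i : T ⟶ G) [IsMonHom i] [Mono i]
    (P : ∀ {Z : Scheme.{u}}, (Z ⟶ G.left) → Prop) (hall : ∀ (Y : Over S) (h : Y ⟶ G), P h.left ↔ ∃ l, l ≫ i = h)
    (hloc : ∀ x : S, ∃ (S' : Scheme.{u}) (f : S' ⟶ S), Etale f ∧ (∃ y, f y = x) ∧
      ∃ (M : Type) (_ : AddCommGroup M) (k : Red.DS S' M ⟶ Red.bc f G), AddGroup.FG M ∧ IsMonHom k ∧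
        IsClosedImmersion k.left ∧
        ∀ (Y : Over S') (y : Y ⟶ Red.bc f G), P (theta f y).left ↔ ∃ l, l ≫ k = y) :
    SGA3x.IsMultTypeFT T := by
  refine MultTypeQI.isMultTypeFT_of_etale_locally fun x => ?_
  obtain ⟨S', f, hf, hx, M, iM, k, hM, hk, hkc, hkP⟩ := hloc x
  refine ⟨S', f, hf, hx, M, iM, hM, ?_⟩
  haveI := hkc
  haveI : Mono k := Over.mono_of_mono_left _
  let is : Red.bc f T ⟶ Red.bc f G := (Over.pullback f).map i
  haveI : IsMonHom is := inferInstanceAs (IsMonHom ((Over.pullback f).map i))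
  haveI : Mono is := inferInstanceAs (Mono ((Over.pullback f).map i))
  haveI := hk
  obtain ⟨φ, hφ⟩ := (hkP _ is).1 ((hall _ _).2 ⟨theta f (𝟙 (Red.bc f T)), by
    rw [← HomUnitLocus.theta_comp_map, Category.id_comp]⟩)
  obtain ⟨l, hl⟩ := (hall _ _).1 ((hkP _ k).2 ⟨𝟙 _, Category.id_comp _⟩)
  obtain ⟨ψ, hψ⟩ := (theta_bijective f).surjective l
  have hψ' : ψ ≫ is = k := (theta_bijective f).injective (by rw [HomUnitLocus.theta_comp_map, hψ, hl])
  haveI : IsMonHom φ :=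
    { one_hom := by rw [← cancel_mono k, Category.assoc, hφ, IsMonHom.one_hom, IsMonHom.one_hom]
      mul_hom := by
        rw [← cancel_mono k, Category.assoc, Category.assoc, hφ, IsMonHom.mul_hom is, IsMonHom.mul_hom k,
          MonoidalCategory.tensorHom_comp_tensorHom_assoc, hφ] }
  let ei : Red.bc f T ≅ Red.DS S' M :=
    ⟨φ, ψ, by rw [← cancel_mono is, Category.assoc, hψ', hφ, Category.id_comp],
      by rw [← cancel_mono k, Category.assoc, hφ, hψ', Category.id_comp]⟩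
  haveI : IsMonHom ei.hom := inferInstanceAs (IsMonHom φ)
  exact ⟨Grp.mkIso' ei⟩

/-- Groups of multiplicative type are commutative. -/
theorem mul_comm_of_multType (hG : SGA3x.IsMultTypeFT G) (Y : Over S) (a b : Y ⟶ G) : a * b = b * a := by
  have hl := MultTypeQI.etale_locally_diag hG
  choose S' f hf hs M hM hfg hiso using hl
  haveI : ∀ s, Etale (f s) := hf
  let g : (∐ fun s => pullback Y.hom (f s)) ⟶ Y.left := Sigma.desc fun s => pullback.fst Y.hom (f s)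
  haveI hget : Etale g := IsZariskiLocalAtSource.sigmaDesc (P := @Etale) fun s =>
    inferInstanceAs (Etale (pullback.fst Y.hom (f s)))
  haveI : Surjective g := ⟨fun x => by
    obtain ⟨y, hy⟩ := hs (Y.hom x)
    obtain ⟨z, hz, -⟩ := Scheme.Pullback.exists_preimage_pullback (f := Y.hom) (g := f (Y.hom x)) x y hy.symm
    exact ⟨Sigma.ι (fun s => pullback Y.hom (f s)) (Y.hom x) z, by
      rw [← Scheme.Hom.comp_apply, Sigma.ι_desc]; exact hz⟩⟩
  haveI : Epi g := (FpqcDescLib.covers_of_isCovering (FpqcDescLib.isCovering_of_lfp g)).epi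
  refine Over.OverMorphism.ext ((cancel_epi g).1 (Sigma.hom_ext _ _ fun s => ?_))
  let Ys : Over (S' s) := Over.mk (pullback.snd Y.hom (f s))
  let ρ : (Over.map (f s)).obj Ys ⟶ Y := Over.homMk (pullback.fst Y.hom (f s)) pullback.condition
  obtain ⟨a', ha⟩ := (theta_bijective (f s)).surjective (ρ ≫ a)
  obtain ⟨b', hb⟩ := (theta_bijective (f s)).surjective (ρ ≫ b)
  let e : Red.bc (f s) G ⟶ Red.DS (S' s) (M s) := (hiso s).some.hom.hom.hom
  haveI : IsMonHom e := (hiso s).some.hom.hom.isMonHom_hom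
  haveI : IsIso e := ⟨(hiso s).some.inv.hom.hom, congrArg (fun k => k.hom.hom) (hiso s).some.hom_inv_id,
    congrArg (fun k => k.hom.hom) (hiso s).some.inv_hom_id⟩
  have h1 : a' * b' = b' * a' := by
    rw [← cancel_mono e]
    exact ((MonObj.mul_comp a' b' e).trans (DS_mul_comm _ _)).trans (MonObj.mul_comp b' a' e).symm
  have h2 : ρ ≫ (a * b) = ρ ≫ (b * a) := by
    rw [MonObj.comp_mul, MonObj.comp_mul, ← ha, ← hb, ← theta_mul, h1, theta_mul]
  rw [Sigma.ι_desc_assoc, Sigma.ι_desc_assoc]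
  exact congrArg (fun k => k.left) h2

end Groth.Agent.TorusQI
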