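import Groth.Agent.TorusQI.Geom

/-!
# Nowhere trivial characters of tori

A character of a torus is faithfully flat if and only if it is nontrivial on every geometric fibre.
-/

universe u

open CategoryTheory CategoryTheory.Limits MonoidalCategory CartesianMonoidalCategory MonObj GrpObj AlgebraicGeometry
open Groth.Agent.GrpSchLib

namespace Groth.Agent.TorusQI

set_option backward.isDefEq.respectTransparency.types false

variable {S : Scheme.{u}}

theorem flat_surjective_DSmap {M N : Type} [AddCommGroup M] [AddCommGroup N] (φ : M →+ N)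
    (hφ : Function.Injective φ) : Flat (Red.DSmap S φ).left ∧ Surjective (Red.DSmap S φ).left := by
  obtain ⟨h1, h2⟩ := HomSplitLocal.flat_surjective_of_injective (ULift.{u} ℤ) φ hφ
  haveI : Flat (Red.diagMap (ULift.{u} ℤ) φ).left := h1
  haveI : Surjective (Red.diagMap (ULift.{u} ℤ) φ).left := h2
  exact ⟨MorphismProperty.of_isPullback (P := @Flat)
      (HomSplitLocal.isPullback_map (Red.diagMap (ULift.{u} ℤ) φ) _) inferInstance,
    MorphismProperty.of_isPullback (P := @Surjective)
      (HomSplitLocal.isPullback_map (Red.diagMap (ULift.{u} ℤ) φ) _) inferInstance⟩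

theorem DSmap_zero {M N : Type} [AddCommGroup M] [AddCommGroup N] :
    Red.DSmap S (0 : M →+ N) = (1 : Red.DS S N ⟶ Red.DS S M) :=
  HomRepLib.ev_ext fun m => by
    rw [← Category.id_comp (Red.DSmap S (0 : M →+ N)), HomRepLib.ev_DSmap, HomRepLib.ev_one]
    exact HomRepLib.ev_zero _

/-- A character of a torus which is not trivial on a geometric fibre is faithfully flat there. -/
theorem ff_geom {T : Over S} [GrpObj T] (hT : Red.IsTorus T) (α : T ⟶ Red.Gm S) [IsMonHom α] {Ω : Type u} [Field Ω]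
    [IsAlgClosed Ω] (b : Spec (CommRingCat.of Ω) ⟶ S) (h : (Over.pullback b).map α ≠ 1) :
    HomSplitLocal.Ff α b := by
  obtain ⟨r, ⟨e⟩⟩ := exists_split_geom hT b
  obtain ⟨e'⟩ := MultTypeBC.bc_DS b ℤ
  let a : Red.DS (Spec (CommRingCat.of Ω)) (Fin r → ℤ) ⟶ Red.bc b T := e.inv.hom.hom
  let c : Red.bc b (Red.Gm S) ⟶ Red.DS (Spec (CommRingCat.of Ω)) ℤ := e'.hom.hom.hom
  haveI : IsMonHom a := e.inv.hom.isMonHom_hom
  haveI : IsMonHom c := e'.hom.hom.isMonHom_hom
  haveI : IsIso a := ⟨e.hom.hom.hom, congrArg (fun k => k.hom.hom) e.inv_hom_id,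
    congrArg (fun k => k.hom.hom) e.hom_inv_id⟩
  haveI : IsIso c := ⟨e'.inv.hom.hom, congrArg (fun k => k.hom.hom) e'.hom_inv_id,
    congrArg (fun k => k.hom.hom) e'.inv_hom_id⟩
  haveI : Subsingleton ↥(Spec (CommRingCat.of Ω)) := inferInstanceAs (Subsingleton (PrimeSpectrum Ω))
  obtain ⟨y⟩ : Nonempty ↥(Spec (CommRingCat.of Ω)) := inferInstanceAs (Nonempty (PrimeSpectrum Ω))
  haveI : AddGroup.FG ℤ := Module.Finite.iff_addGroup_fg.1 inferInstance
  obtain ⟨ψ, V, hy, hV⟩ := exists_induced (a ≫ (Over.pullback b).map α ≫ c) y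
  have hf : a ≫ (Over.pullback b).map α ≫ c = Red.DSmap _ ψ := by
    have h0 := hV _ (𝟙 _) (fun z _ => (Subsingleton.elim y z) ▸ hy)
    rwa [Category.id_comp, Category.id_comp] at h0
  have hψ : Function.Injective ψ := by
    rw [injective_iff_map_eq_zero]
    intro n hn
    by_contra hn0
    refine h ?_
    have h1 : ψ 1 = 0 := by
      rw [show n = n • (1 : ℤ) by simp, map_zsmul] at hn
      exact (smul_eq_zero.1 hn).resolve_left hn0
    have hψ0 : ψ = 0 := AddMonoidHom.ext_int (by simpa using h1)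
    have hc1 : (1 : Red.bc b T ⟶ Red.bc b (Red.Gm S)) ≫ c = 1 :=
      haveI : IsMonHom c := e'.hom.hom.isMonHom_hom
      MonObj.one_comp _
    rw [← cancel_mono c, hc1, ← cancel_epi a, MonObj.comp_one, hf, hψ0, DSmap_zero]
  obtain ⟨h1, h2⟩ := flat_surjective_DSmap (S := Spec (CommRingCat.of Ω)) ψ hψ
  have he : ((Over.pullback b).map α).left = (inv a).left ≫ (Red.DSmap _ ψ).left ≫ (inv c).left := by
    rw [← Over.comp_left, ← Over.comp_left, ← hf]
    simp
  haveI : IsIso (inv a).left := Functor.map_isIso (Over.forget _) (inv a)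
  haveI : IsIso (inv c).left := Functor.map_isIso (Over.forget _) (inv c)
  constructor <;> rw [he] <;> infer_instance

/-- A character which is faithfully flat after a base change to a nonempty scheme is not trivial there. -/
theorem ne_one_of_ff {T : Over S} [GrpObj T] (α : T ⟶ Red.Gm S) {S' : Scheme.{u}} (g : S' ⟶ S) [Nonempty S']
    [LocallyOfFinitePresentation α.left] (h : HomSplitLocal.Ff α g) : (Over.pullback g).map α ≠ 1 := by
  intro h0
  let β := (Over.pullback g).map α
  haveI : Flat β.left := h.1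
  haveI : Surjective β.left := h.2
  haveI : LocallyOfFinitePresentation β.left :=
    MorphismProperty.of_isPullback (P := @LocallyOfFinitePresentation) (HomSplitLocal.isPullback_map α g) inferInstance
  haveI : Epi β := FpqcDescLib.Covers.over_epi (FpqcDescLib.covers_of_isCovering (FpqcDescLib.isCovering_of_lfp β.left))
  obtain ⟨e'⟩ := MultTypeBC.bc_DS g ℤ
  let c : Red.bc g (Red.Gm S) ⟶ Red.DS S' ℤ := e'.hom.hom.hom
  haveI : IsMonHom c := e'.hom.hom.isMonHom_hom
  haveI : IsIso c := ⟨e'.inv.hom.hom, congrArg (fun k => k.hom.hom) e'.hom_inv_id,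
    congrArg (fun k => k.hom.hom) e'.inv_hom_id⟩
  have hc1 : (1 : Red.bc g T ⟶ Red.bc g (Red.Gm S)) ≫ c = 1 := MonObj.one_comp _
  have h1 : c = 1 := by
    rw [← cancel_epi β, MonObj.comp_one, show β = 1 from h0, hc1]
  have h2 : (𝟙 (Red.DS S' ℤ)) = 1 := by
    rw [← IsIso.inv_hom_id c]
    conv_lhs => arg 2; rw [h1]
    rw [MonObj.comp_one]
  rw [← DSmap_id, ← DSmap_zero] at h2
  exact one_ne_zero (α := ℤ) (DFunLike.congr_fun (DSmap_injective h2) 1)

end Groth.Agent.TorusQI
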