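import Groth.Agent.TorusQI.SplitSubtori
import Groth.Agent.HomRepLib.Apply
import Groth.Agent.HomRepLib.FiniteRep
import Groth.Agent.MultTypeQI.EtaleLocal
import Groth.Agent.CechTorsorX.EtaleNormal
import Groth.Agent.GrpSchLib.HomUnitLocus

/-!
# Homomorphisms of groups of multiplicative type over a normal base

Over a normal integral scheme they are determined by, and extend from, the generic fibre.
-/

universe u

open CategoryTheory CategoryTheory.Limits MonoidalCategory CartesianMonoidalCategory MonObj GrpObj AlgebraicGeometry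
open Groth.Agent.DSPtsLib Groth.Agent.HomRepLib

namespace Groth.Agent.TorusQI

set_option backward.isDefEq.respectTransparency.types false

variable {S : Scheme.{u}}

/-- A constant scheme satisfies the lifting of specialisations. -/
theorem specializing_const (I : Type u) {a : ↥(TwC.const S I).left} {y : S}
    (h : (TwC.const S I).hom a ⤳ y) : ∃ b, a ⤳ b ∧ (TwC.const S I).hom b = y := by
  obtain ⟨⟨ψ, z⟩, hz⟩ := (sigmaMk fun _ : I => S).surjective a
  rw [sigmaMk_mk] at hz
  subst hz
  have hι : ∀ w : S, (TwC.const S I).hom (Sigma.ι (fun _ : I => S) ψ w) = w := fun w => by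
    show (Sigma.ι (fun _ : I => S) ψ ≫ Sigma.desc fun _ : I => 𝟙 S) w = w
    rw [Sigma.ι_desc]
    rfl
  rw [hι] at h
  exact ⟨Sigma.ι (fun _ : I => S) ψ y, h.map (Sigma.ι (fun _ : I => S) ψ).continuous, hι y⟩

/-- The homomorphisms between groups of multiplicative type form an étale, separated scheme along which
specialisations lift. -/
theorem exists_homScheme {G G' : Over S} [GrpObj G] [GrpObj G'] (hG : SGA3x.IsMultTypeFT G) (hG' : SGA3x.IsMultTypeFT G') :
    ∃ (A : Over S) (υ : G ⊗ A ⟶ G'), AutFam.RepresentsHom G G' A υ ∧ Etale A.hom ∧ IsSeparated A.hom ∧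
      SpecializingMap A.hom := by
  classical
  choose U₁ f₁ hT₁ hx₁ M₁ iM₁ hfg₁ e₁ using MultTypeQI.etale_locally_diag hG
  choose U₂ f₂ hT₂ hx₂ M₂ iM₂ hfg₂ e₂ using MultTypeQI.etale_locally_diag hG'
  haveI : ∀ s, Etale (f₁ s) := hT₁
  haveI : ∀ s, Etale (f₂ s) := hT₂
  let U : S → Scheme.{u} := fun s => pullback (f₁ s) (f₂ s)
  let f : ∀ s, U s ⟶ S := fun s => pullback.fst (f₁ s) (f₂ s) ≫ f₁ s
  haveI : ∀ s, Etale (f s) := fun s => inferInstanceAs (Etale (pullback.fst (f₁ s) (f₂ s) ≫ f₁ s))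
  have hf : ∀ x : S, ∃ s, x ∈ Set.range (f s) := fun x => by
    obtain ⟨p, hp⟩ := hx₁ x
    obtain ⟨q, hq⟩ := hx₂ x
    obtain ⟨w, hw, -⟩ := Scheme.Pullback.exists_preimage_pullback p q (hp.trans hq.symm)
    exact ⟨x, w, by rw [Scheme.Hom.comp_apply, hw]; exact hp⟩
  have e : ∀ s, Nonempty (Grp.mk (Red.bc (f s) G) ≅ Grp.mk (Red.DS (U s) (M₁ s))) := fun s =>
    diag_bc (pullback.fst (f₁ s) (f₂ s)) (e₁ s).some
  have e' : ∀ s, Nonempty (Grp.mk (Red.bc (f s) G') ≅ Grp.mk (Red.DS (U s) (M₂ s))) := fun s => by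
    show Nonempty (Grp.mk (Red.bc (pullback.fst (f₁ s) (f₂ s) ≫ f₁ s) G') ≅ _)
    rw [show pullback.fst (f₁ s) (f₂ s) ≫ f₁ s = pullback.snd (f₁ s) (f₂ s) ≫ f₂ s from pullback.condition]
    exact diag_bc (pullback.snd (f₁ s) (f₂ s)) (e₂ s).some
  choose υ₀ hυ₀ hpt using fun s => exists_representsHom_DS (S := U s) (M := M₁ s) (N := M₂ s)
  obtain ⟨A, υ, hA, hloc⟩ := exists_representsHom_etale f hf (fun s => ULift.{u} (M₂ s →+ M₁ s))
    (fun s => ((e s).some.hom.hom.hom ▷ _) ≫ υ₀ s ≫ (e' s).some.inv.hom.hom)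
    (fun s => representsHom_of_iso (e s).some (e' s).some (hυ₀ s))
  choose eA heA using hloc
  refine ⟨A, υ, hA, ?_, ?_, ?_⟩
  · refine prop_of_etale_cover @Etale f hf A.hom fun s => ?_
    haveI : IsIso (eA s).hom.left := inferInstanceAs (IsIso ((Over.forget _).mapIso (eA s)).hom)
    haveI := etale_const (S := U s) (ULift.{u} (M₂ s →+ M₁ s))
    show Etale (Red.bc (f s) A).hom
    rw [← Over.w (eA s).hom]
    infer_instance
  · haveI := EtFound.fpqc_isSeparated.{u}
    refine prop_of_etale_cover @IsSeparated f hf A.hom fun s => ?_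
    haveI : IsIso (eA s).hom.left := inferInstanceAs (IsIso ((Over.forget _).mapIso (eA s)).hom)
    haveI := isSeparated_const (S := U s) (ULift.{u} (M₂ s →+ M₁ s))
    show IsSeparated (Red.bc (f s) A).hom
    rw [← Over.w (eA s).hom]
    infer_instance
  · intro a y hy
    obtain ⟨s, u, hu⟩ := hf y
    obtain ⟨u', hu', hu'a⟩ := Flat.generalizingMap (f s) (show A.hom a ⤳ f s u from hu.symm ▸ hy)
    obtain ⟨w, hwa, hwu⟩ := Scheme.Pullback.exists_preimage_pullback (f := A.hom) (g := f s) a u' hu'a.symm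
    have hw : (TwC.const (U s) _).hom ((eA s).hom.left w) = u' := by
      rw [← Scheme.Hom.comp_apply, Over.w (eA s).hom]
      exact hwu
    obtain ⟨b, hb, hbu⟩ := specializing_const _ (hw.symm ▸ hu' : (TwC.const (U s) _).hom ((eA s).hom.left w) ⤳ u)
    refine ⟨pullback.fst A.hom (f s) ((eA s).inv.left b), ?_, ?_⟩
    · have hb' := hb.map ((eA s).inv.left ≫ pullback.fst A.hom (f s)).continuous
      rw [← Scheme.Hom.comp_apply] at hb'
      have : (eA s).hom.left ≫ (eA s).inv.left ≫ pullback.fst A.hom (f s) = pullback.fst A.hom (f s) := by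
        rw [← Category.assoc, ← Over.comp_left, Iso.hom_inv_id]
        exact Category.id_comp _
      rw [this, hwa] at hb'
      exact hb'
    · rw [← Scheme.Hom.comp_apply, pullback.condition, Scheme.Hom.comp_apply]
      refine (congrArg (f s) ?_).trans hu
      rw [← hbu, ← Scheme.Hom.comp_apply]
      exact congrArg (fun k => k b) (Over.w (eA s).inv)

/-- Homomorphisms of groups of multiplicative type over a normal integral scheme are determined by, and extend from,
any reduced scheme dominated by the generic point. -/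
theorem existsUnique_hom_extend_aux [IsIntegral S] (hnorm : Pi1.IsNormalScheme S) {G G' : Over S} [GrpObj G] [GrpObj G']
    (hG : SGA3x.IsMultTypeFT G) (hG' : SGA3x.IsMultTypeFT G') {Z : Scheme.{u}} [IsReduced Z] (f : Z ⟶ S)
    (l : Spec (S.residueField (genericPoint S)) ⟶ Z) [IsDominant l]
    (hl : l ≫ f = S.fromSpecResidueField (genericPoint S)) (v : Red.bc f G ⟶ Red.bc f G') [IsMonHom v] :
    ∃! lam : G ⟶ G', IsMonHom lam ∧ (Over.pullback f).map lam = v := by
  obtain ⟨A, υ, hA, _, _, hsp⟩ := exists_homScheme hG hG'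
  let T : Over S := (Over.map f).obj (𝟙_ (Over Z))
  let tf : T ⟶ 𝟙_ (Over S) := Over.homMk f (Category.comp_id f ▸ (Category.id_comp f).symm)
  have key : ∀ c : 𝟙_ (Over S) ⟶ A,
      toBc f ((G ◁ (tf ≫ c)) ≫ υ) =
        fst (Red.bc f G) _ ≫ (Over.pullback f).map (lift (𝟙 G) (toUnit G ≫ c) ≫ υ) := by
    intro c
    rw [← Category.id_comp (toBc f ((G ◁ (tf ≫ c)) ≫ υ)), ← lift_fst_snd]
    refine (theta_bijective f).injective ?_
    rw [theta_toBc, lift_whiskerLeft_assoc, GrpSchLib.HomUnitLocus.theta_comp_map, comp_lift_assoc, Category.comp_id,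
      ← Category.assoc _ (toUnit G), toUnit_unique (theta f (fst (Red.bc f G) _) ≫ toUnit G)
        ((Over.map f).map (snd (Red.bc f G) _) ≫ tf), Category.assoc]
  let lamOf : (𝟙_ (Over S) ⟶ A) → (G ⟶ G') := fun c => lift (𝟙 G) (toUnit G ≫ c) ≫ υ
  have hof : ∀ lam : G ⟶ G', IsMonHom lam → ∃ c, lamOf c = lam := by
    intro lam _
    have hφ : AutFam.IsHomFamily G G' (fst G (𝟙_ (Over S)) ≫ lam) := fun X g₁ g₂ t => by
      simp only [lift_fst_assoc]
      exact MonObj.mul_comp g₁ g₂ lam
    obtain ⟨c, hc, -⟩ := hA.2 _ _ hφ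
    refine ⟨c, ?_⟩
    calc lift (𝟙 G) (toUnit G ≫ c) ≫ υ = lift (𝟙 G) (toUnit G) ≫ (G ◁ c) ≫ υ := by rw [lift_whiskerLeft_assoc]
      _ = lift (𝟙 G) (toUnit G) ≫ fst G (𝟙_ (Over S)) ≫ lam := congrArg (_ ≫ ·) hc
      _ = lam := by rw [lift_fst_assoc, Category.id_comp]
  have hψ : AutFam.IsHomFamily (Red.bc f G) (Red.bc f G') (fst (Red.bc f G) (𝟙_ (Over Z)) ≫ v) := fun X g₁ g₂ t => by
    simp only [lift_fst_assoc]
    exact MonObj.mul_comp g₁ g₂ v
  obtain ⟨φ, hφ⟩ := (toBc_bijective f).surjective (fst (Red.bc f G) (𝟙_ (Over Z)) ≫ v)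
  have hφf : AutFam.IsHomFamily G G' φ := (isHomFamily_toBc f φ).1 (hφ.symm ▸ hψ)
  obtain ⟨a, ha, hau⟩ := hA.2 T φ hφf
  have hfst : ∀ {p q : Red.bc f G ⟶ Red.bc f G'},
      fst (Red.bc f G) (𝟙_ (Over Z)) ≫ p = fst _ _ ≫ q → p = q := by
    intro p q h
    have := congrArg (lift (𝟙 (Red.bc f G)) (toUnit _) ≫ ·) h
    simpa only [lift_fst_assoc, Category.id_comp] using this
  have hchar : ∀ c : 𝟙_ (Over S) ⟶ A, (Over.pullback f).map (lamOf c) = v ↔ tf ≫ c = a := fun c => by
    constructor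
    · intro h
      refine hau _ ((toBc_bijective f).injective ?_)
      exact (key c).trans ((congrArg (fst (Red.bc f G) _ ≫ ·) h).trans hφ.symm)
    · intro h
      exact hfst ((key c).symm.trans (by rw [h, ha, hφ]))
  have haf : a.left ≫ A.hom = f := (Over.w a).trans (Category.id_comp f)
  obtain ⟨σ, hσ, hσx⟩ := CechTorsorX.EtaleNormal.exists_section A.hom hnorm hsp (l ≫ a.left)
    (by rw [Category.assoc, haf, hl])
  haveI : IsReduced T.left := inferInstanceAs (IsReduced Z)
  haveI : IsDominant (show _ ⟶ T.left from l) := ‹IsDominant l›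
  let c : 𝟙_ (Over S) ⟶ A := Over.homMk σ hσ
  have hca : tf ≫ c = a := Over.OverMorphism.ext
    (ext_of_isDominant_of_isSeparated A.hom
      (show (f ≫ σ) ≫ A.hom = a.left ≫ A.hom by rw [Category.assoc, hσ, haf]; exact Category.comp_id f) l
      (show l ≫ f ≫ σ = l ≫ a.left by rw [← Category.assoc, hl, hσx]))
  refine ⟨lamOf c, ⟨isMonHom_of_pts _ fun X x y => ?_, (hchar c).2 hca⟩, ?_⟩
  · simp only [lamOf, comp_lift_assoc, Category.comp_id]
    rw [← Category.assoc (x * y), toUnit_unique ((x * y) ≫ toUnit G) (toUnit X), ← Category.assoc x,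
      toUnit_unique (x ≫ toUnit G) (toUnit X), ← Category.assoc y, toUnit_unique (y ≫ toUnit G) (toUnit X)]
    exact hA.1 X x y _
  · rintro lam ⟨hlam, hlamv⟩
    obtain ⟨c', rfl⟩ := hof lam hlam
    have hc' := (hchar c').1 hlamv
    haveI : IsDominant (S.fromSpecResidueField (genericPoint S)) := ⟨by
      rw [DenseRange, Scheme.range_fromSpecResidueField]
      exact ((genericPoint_spec S).def.trans rfl : closure _ = Set.univ) |> dense_iff_closure_eq.2⟩
    haveI : IsReduced (𝟙_ (Over S)).left := inferInstanceAs (IsReduced S)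
    have : c' = c := Over.OverMorphism.ext
      (ext_of_isDominant_of_isSeparated A.hom ((Over.w c').trans (Over.w c).symm)
        (S.fromSpecResidueField (genericPoint S)) (by
          rw [← hl, Category.assoc, Category.assoc]
          exact congrArg (l ≫ ·) (congrArg Over.Hom.left (hc'.trans hca.symm))))
    rw [this]

/-- Homomorphisms of groups of multiplicative type over a normal integral scheme are determined by, and extend from,
the generic fibre. -/
theorem existsUnique_hom_extend [IsIntegral S] (hnorm : Pi1.IsNormalScheme S) {G G' : Over S} [GrpObj G] [GrpObj G']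
    (hG : SGA3x.IsMultTypeFT G) (hG' : SGA3x.IsMultTypeFT G')
    (lamK : Red.bc (S.fromSpecStalk (genericPoint S)) G ⟶ Red.bc (S.fromSpecStalk (genericPoint S)) G')
    [IsMonHom lamK] :
    ∃! lam : G ⟶ G', IsMonHom lam ∧ (Over.pullback (S.fromSpecStalk (genericPoint S))).map lam = lamK := by
  have hF : IsField (S.presheaf.stalk (genericPoint S)) := Field.toIsField (S.functionField)
  haveI : IsIso (S.residue (genericPoint S)) :=
    (ConcreteCategory.isIso_iff_bijective _).2 ⟨RingHom.injective_iff_ker_eq_bot _ |>.2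
      ((IsLocalRing.ker_residue).trans (IsLocalRing.isField_iff_maximalIdeal_eq.1 hF)), IsLocalRing.residue_surjective⟩
  haveI : IsReduced (Spec (S.presheaf.stalk (genericPoint S))) := by
    haveI : _root_.IsReduced (S.presheaf.stalk (genericPoint S)) := inferInstanceAs (_root_.IsReduced S.functionField)
    infer_instance
  exact existsUnique_hom_extend_aux hnorm hG hG' (S.fromSpecStalk (genericPoint S))
    (Spec.map (S.residue (genericPoint S))) rfl lamK

/-- Homomorphisms of groups of multiplicative type over a normal integral scheme are determined by, and extend from,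
a nonempty open subscheme. -/
theorem existsUnique_hom_extend_open [IsIntegral S] (hnorm : Pi1.IsNormalScheme S) {G G' : Over S} [GrpObj G]
    [GrpObj G'] (hG : SGA3x.IsMultTypeFT G) (hG' : SGA3x.IsMultTypeFT G') (U : S.Opens) {y : S} (hy : y ∈ U)
    (v : Red.bc U.ι G ⟶ Red.bc U.ι G') [IsMonHom v] :
    ∃! lam : G ⟶ G', IsMonHom lam ∧ (Over.pullback U.ι).map lam = v := by
  have hU : genericPoint S ∈ U := ((genericPoint_spec S).mem_open_set_iff U.isOpen).mpr ⟨y, trivial, hy⟩
  have hr : Set.range (S.fromSpecResidueField (genericPoint S)) ⊆ Set.range U.ι := by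
    rw [Scheme.range_fromSpecResidueField, Scheme.Opens.range_ι, Set.singleton_subset_iff]
    exact hU
  let l := IsOpenImmersion.lift U.ι (S.fromSpecResidueField (genericPoint S)) hr
  have hl : l ≫ U.ι = S.fromSpecResidueField (genericPoint S) := IsOpenImmersion.lift_fac _ _ _
  haveI : IsDominant l := ⟨fun z => by
    rw [U.ι.isOpenEmbedding.isInducing.closure_eq_preimage_closure_image, Set.mem_preimage, ← Set.range_comp,
      show (U.ι ∘ l : _ → S) = S.fromSpecResidueField (genericPoint S) by rw [← hl]; rfl,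
      Scheme.range_fromSpecResidueField]
    exact (genericPoint_spec S).def ▸ Set.mem_univ _⟩
  haveI : IsReduced (U : Scheme.{u}) := isReduced_of_isOpenImmersion U.ι
  exact existsUnique_hom_extend_aux hnorm hG hG' U.ι l hl v

/-- Groups of multiplicative type over a normal integral scheme isomorphic on a nonempty open are isomorphic. -/
theorem nonempty_iso_of_open [IsIntegral S] (hnorm : Pi1.IsNormalScheme S) {G G' : Over S} [GrpObj G] [GrpObj G']
    (hG : SGA3x.IsMultTypeFT G) (hG' : SGA3x.IsMultTypeFT G') (U : S.Opens) {y : S} (hy : y ∈ U)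
    (e : Grp.mk (Red.bc U.ι G) ≅ Grp.mk (Red.bc U.ι G')) :
    Nonempty (Grp.mk G ≅ Grp.mk G') := by
  let F := Over.pullback U.ι
  let a : Red.bc U.ι G ⟶ Red.bc U.ι G' := e.hom.hom.hom
  let b : Red.bc U.ι G' ⟶ Red.bc U.ι G := e.inv.hom.hom
  haveI : IsMonHom a := e.hom.hom.isMonHom_hom
  haveI : IsMonHom b := e.inv.hom.isMonHom_hom
  obtain ⟨f, ⟨hfm, hf⟩, -⟩ := existsUnique_hom_extend_open hnorm hG hG' U hy a
  obtain ⟨g, ⟨hgm, hg⟩, -⟩ := existsUnique_hom_extend_open hnorm hG' hG U hy b
  haveI := hfm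
  haveI := hgm
  have h1 : f ≫ g = 𝟙 G := (existsUnique_hom_extend_open hnorm hG hG U hy (𝟙 _)).unique
    ⟨inferInstance, by
      rw [Functor.map_comp, hf, hg]
      exact congrArg (fun k : Grp.mk _ ⟶ Grp.mk _ => k.hom.hom) e.hom_inv_id⟩
    ⟨inferInstance, F.map_id _⟩
  have h2 : g ≫ f = 𝟙 G' := (existsUnique_hom_extend_open hnorm hG' hG' U hy (𝟙 _)).unique
    ⟨inferInstance, by
      rw [Functor.map_comp, hg, hf]
      exact congrArg (fun k : Grp.mk _ ⟶ Grp.mk _ => k.hom.hom) e.inv_hom_id⟩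
    ⟨inferInstance, F.map_id _⟩
  haveI : IsMonHom (Iso.mk f g h1 h2).hom := hfm
  exact ⟨Grp.mkIso' (Iso.mk f g h1 h2)⟩

end Groth.Agent.TorusQI
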