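import Groth.Agent.TorusQI.Image
import Groth.Agent.TorusQI.QuotientTorus

/-!
# The kernel and the image of a homomorphism of groups of multiplicative type

Both are subgroups of multiplicative type.
-/

universe u

open CategoryTheory CategoryTheory.Limits MonoidalCategory CartesianMonoidalCategory MonObj GrpObj AlgebraicGeometry
open Groth.Agent.HomRepLib Groth.Agent.DSPtsLib Groth.Agent.GrpSchLib

namespace Groth.Agent.TorusQI

set_option backward.isDefEq.respectTransparency.types false
set_option maxHeartbeats 400000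

variable {S : Scheme.{u}} {H G : Over S} [GrpObj H] [GrpObj G]

theorem one_left (Y : Over S) : (1 : Y ⟶ G).left = Y.hom ≫ η[G].left := by
  rw [Hom.one_def, Over.comp_left, show (toUnit Y).left = Y.hom from
    (Category.comp_id _).symm.trans (Over.w (toUnit Y))]

/-- A point in the kernel. -/
def InKer (u : H ⟶ G) {T : Scheme.{u}} (c : T ⟶ H.left) : Prop := c ≫ u.left = (c ≫ H.hom) ≫ η[G].left

theorem inKer_iff (u : H ⟶ G) {Y : Over S} (h : Y ⟶ H) : InKer u h.left ↔ h ≫ u = 1 := by
  rw [InKer, ← Over.comp_left, Over.w h, ← one_left]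
  exact ⟨fun e => Over.OverMorphism.ext e, fun e => congrArg (fun k => k.left) e⟩

/-- A point in the image. -/
def InImg (u : H ⟶ G) {T : Scheme.{u}} (c : T ⟶ G.left) : Prop :=
  ∃ (P : Scheme.{u}) (p : P ⟶ T), Flat p ∧ Surjective p ∧ LocallyOfFinitePresentation p ∧
    ∃ e : P ⟶ H.left, p ≫ c = e ≫ u.left

theorem inImg_iff (u : H ⟶ G) {Y : Over S} (h : Y ⟶ G) : InImg u h.left ↔
    ∃ (Q : Over S) (p : Q ⟶ Y), Flat p.left ∧ Surjective p.left ∧ LocallyOfFinitePresentation p.left ∧
      ∃ e : Q ⟶ H, p ≫ h = e ≫ u := by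
  constructor
  · rintro ⟨P, p, h1, h2, h3, e, he⟩
    exact ⟨Over.mk (p ≫ Y.hom), Over.homMk p rfl, h1, h2, h3, Over.homMk e (by
      show e ≫ H.hom = p ≫ Y.hom
      rw [← Over.w u, ← Category.assoc, ← he, Category.assoc, Over.w h]), Over.OverMorphism.ext he⟩
  · rintro ⟨Q, p, h1, h2, h3, e, he⟩
    exact ⟨Q.left, p.left, h1, h2, h3, e.left, congrArg (fun k => k.left) he⟩

theorem isLocalSubgroup_inKer (u : H ⟶ G) [IsMonHom u] : IsLocalSubgroup (G := H) (fun c => InKer u c) where
  comp l h := by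
    rw [InKer, Category.assoc, h]
    simp only [Category.assoc]
  of_openCover 𝒰 h := 𝒰.hom_ext _ _ fun i => by
    have := h i
    rw [InKer, Category.assoc] at this
    rw [this]
    simp only [Category.assoc]
  of_covers p h1 h2 h3 h := by
    haveI := h1
    haveI := h2
    haveI := h3
    haveI := (FpqcDescLib.covers_of_isCovering (FpqcDescLib.isCovering_of_lfp p)).epi
    rw [InKer, Category.assoc] at h
    refine (cancel_epi p).1 (h.trans ?_)
    simp only [Category.assoc]
  one Y := (inKer_iff u _).2 (MonObj.one_comp u)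
  mul ha hb := (inKer_iff u _).2 (by
    rw [MonObj.mul_comp, (inKer_iff u _).1 ha, (inKer_iff u _).1 hb, _root_.mul_one])
  inv ha := (inKer_iff u _).2 (by rw [GrpObj.inv_comp, (inKer_iff u _).1 ha, inv_one])

theorem isLocalSubgroup_inImg (u : H ⟶ G) [IsMonHom u] : IsLocalSubgroup (G := G) (fun c => InImg u c) where
  comp {T T' c} l h := by
    obtain ⟨P, p, h1, h2, h3, e, he⟩ := h
    haveI := h1
    haveI := h2
    haveI := h3
    exact ⟨pullback l p, pullback.fst l p, inferInstance, inferInstance, inferInstance, pullback.snd l p ≫ e, by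
      rw [pullback.condition_assoc, he, Category.assoc]⟩
  of_openCover {T c} 𝒰 h := by
    choose P p h1 h2 h3 e he using h
    haveI := h1
    haveI := h3
    refine ⟨∐ P, Sigma.desc fun i => p i ≫ 𝒰.f i, IsZariskiLocalAtSource.sigmaDesc (P := @Flat) fun i => inferInstance,
      ⟨fun x => ?_⟩, IsZariskiLocalAtSource.sigmaDesc (P := @LocallyOfFinitePresentation) fun i => inferInstance,
      Sigma.desc e, Sigma.hom_ext _ _ fun i => ?_⟩
    · obtain ⟨i, y, rfl⟩ := 𝒰.exists_eq x
      obtain ⟨z, rfl⟩ := (h2 i).surj y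
      exact ⟨Sigma.ι P i z, by rw [← Scheme.Hom.comp_apply, Sigma.ι_desc, Scheme.Hom.comp_apply]⟩
    · rw [Sigma.ι_desc_assoc, Sigma.ι_desc_assoc, Category.assoc, he]
  of_covers {T T' c} p h1 h2 h3 h := by
    obtain ⟨P, q, g1, g2, g3, e, he⟩ := h
    haveI := h1
    haveI := h2
    haveI := h3
    haveI := g1
    haveI := g2
    haveI := g3
    exact ⟨P, q ≫ p, inferInstance, inferInstance, inferInstance, e, by rw [Category.assoc, he]⟩
  one Y := (inImg_iff u _).2 ⟨Y, 𝟙 Y, by rw [Over.id_left]; infer_instance, by rw [Over.id_left]; infer_instance,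
    by rw [Over.id_left]; infer_instance, 1, by rw [Category.id_comp, MonObj.one_comp u]⟩
  mul {Y a b} ha hb := by
    obtain ⟨Q, p, h1, h2, h3, e, he⟩ := (inImg_iff u _).1 ha
    obtain ⟨Q', p', g1, g2, g3, e', he'⟩ := (inImg_iff u _).1 hb
    haveI := h1
    haveI := h2
    haveI := h3
    haveI := g1
    haveI := g2
    haveI := g3
    let R : Over S := Over.mk (pullback.fst p.left p'.left ≫ Q.hom)
    let r : R ⟶ Q := Over.homMk (pullback.fst p.left p'.left) rfl
    let r' : R ⟶ Q' := Over.homMk (pullback.snd p.left p'.left) (by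
      show pullback.snd p.left p'.left ≫ Q'.hom = pullback.fst p.left p'.left ≫ Q.hom
      rw [← Over.w p', ← Category.assoc, ← pullback.condition, Category.assoc, Over.w p])
    have hr : r ≫ p = r' ≫ p' := Over.OverMorphism.ext pullback.condition
    refine (inImg_iff u _).2 ⟨R, r ≫ p, ?_, ?_, ?_, (r ≫ e) * (r' ≫ e'), ?_⟩
    · rw [Over.comp_left]; exact inferInstanceAs (Flat (pullback.fst p.left p'.left ≫ p.left))
    · rw [Over.comp_left]; exact inferInstanceAs (Surjective (pullback.fst p.left p'.left ≫ p.left))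
    · rw [Over.comp_left]
      exact inferInstanceAs (LocallyOfFinitePresentation (pullback.fst p.left p'.left ≫ p.left))
    · rw [MonObj.mul_comp, MonObj.comp_mul]
      congr 1
      · rw [Category.assoc, he, Category.assoc]
      · rw [hr, Category.assoc, he', Category.assoc]
  inv {Y a} ha := by
    obtain ⟨Q, p, h1, h2, h3, e, he⟩ := (inImg_iff u _).1 ha
    exact (inImg_iff u _).2 ⟨Q, p, h1, h2, h3, e⁻¹, by rw [GrpObj.comp_inv, he, GrpObj.inv_comp]⟩

/-- The kernel is of multiplicative type. -/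
theorem exists_kernel (hH : SGA3x.IsMultTypeFT H) (hG : SGA3x.IsMultTypeFT G) (u : H ⟶ G) [IsMonHom u] :
    ∃ (K : Over S) (_ : GrpObj K) (i : K ⟶ H), IsMonHom i ∧ Mono i ∧ SGA3x.IsMultTypeFT K ∧
      ∀ (Y : Over S) (h : Y ⟶ H), h ≫ u = 1 ↔ ∃ l, l ≫ i = h := by
  choose S' f hf hy M N iM iN hM hN eH eG ψ h1 h2 h3 h4 hu using fun x => exists_induced_piece hH hG u x
  haveI : ∀ x, AddGroup.FG (M x) := hM
  let π : ∀ x, M x →+ M x ⧸ (ψ x).range := fun x => QuotientAddGroup.mk' _
  haveI : ∀ x, IsMonHom (eH x) := h1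
  haveI : ∀ x, IsIso (eH x) := h2
  haveI : ∀ x, IsMonHom (eG x) := h3
  haveI : ∀ x, IsIso (eG x) := h4
  let k : ∀ x, Red.DS (S' x) (M x ⧸ (ψ x).range) ⟶ Red.bc (f x) H := fun x => Red.DSmap (S' x) (π x) ≫ inv (eH x)
  have hkm : ∀ x, IsMonHom (k x) := fun x => by
    haveI := S5427.isMonHom_DSmap (S' x) (π x)
    haveI : IsMonHom (inv (eH x)) := inferInstanceAs (IsMonHom (asIso (eH x)).inv)
    exact inferInstanceAs (IsMonHom (Red.DSmap (S' x) (π x) ≫ inv (eH x)))
  have hkc : ∀ x, IsClosedImmersion (k x).left := fun x => by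
    haveI := S5427.isClosedImmersion_DSmap (S' x) (π x) (QuotientAddGroup.mk'_surjective _)
    haveI : IsIso (inv (eH x)).left := inferInstanceAs (IsIso ((Over.forget _).map (inv (eH x))))
    rw [Over.comp_left]
    infer_instance
  have hchar : ∀ x (Y : Over (S' x)) (y : Y ⟶ Red.bc (f x) H),
      InKer u (theta (f x) y).left ↔ ∃ l, l ≫ k x = y := fun x Y y => by
    rw [inKer_iff, ← HomUnitLocus.theta_comp_map]
    constructor
    · intro h
      have h' : y ≫ (Over.pullback (f x)).map u = 1 := (theta_bijective (f x)).injective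
        (h.trans (HomUnitLocus.theta_one (f x) Y).symm)
      obtain ⟨l, hl⟩ := exists_fac_DSmap (π := π x) (QuotientAddGroup.mk'_surjective _) (y ≫ eH x) fun m hm => by
        obtain ⟨n, rfl⟩ := (QuotientAddGroup.eq_zero_iff m).1 hm
        rw [← ev_DSmap, Category.assoc, ← hu, ← Category.assoc, h', MonObj.one_comp (eG x), ev_one]
      exact ⟨l, by simp only [k]; rw [← Category.assoc, hl, Category.assoc, IsIso.hom_inv_id, Category.comp_id]⟩
    · rintro ⟨l, rfl⟩
      rw [← HomUnitLocus.theta_one (f x) Y]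
      congr 1
      rw [← cancel_mono (eG x), MonObj.one_comp (eG x), Category.assoc, hu]
      refine ev_ext fun n => ?_
      simp only [k, Category.assoc, IsIso.inv_hom_id_assoc]
      rw [← Category.assoc, ev_DSmap, ev_DSmap, ev_one,
        show π x (ψ x n) = 0 from (QuotientAddGroup.eq_zero_iff _).2 ⟨n, rfl⟩, ev_zero]
  obtain ⟨K, iK, i, hi, him, hall⟩ := exists_subgroup_of_local (fun c => InKer u c) (isLocalSubgroup_inKer u)
    S' f hf (fun x => ⟨x, hy x⟩) (fun x => Red.DS (S' x) (M x ⧸ (ψ x).range)) k hkc hchar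
  haveI := hi
  haveI := him
  exact ⟨K, iK, i, hi, him, isMultTypeFT_of_pieces i (fun c => InKer u c) hall (fun x => ⟨S' x, f x, hf x, hy x,
    _, inferInstance, k x, AddGroup.fg_of_surjective (QuotientAddGroup.mk'_surjective (ψ x).range), hkm x, hkc x,
    hchar x⟩), fun Y h => by rw [← inKer_iff]; exact hall Y h⟩

/-- The image is of multiplicative type, and the homomorphism is covering onto it. -/
theorem exists_image (hH : SGA3x.IsMultTypeFT H) (hG : SGA3x.IsMultTypeFT G) (u : H ⟶ G) [IsMonHom u] :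
    ∃ (Q : Over S) (_ : GrpObj Q) (j : Q ⟶ G) (q : H ⟶ Q), IsMonHom j ∧ Mono j ∧ IsMonHom q ∧
      FpqcDescLib.Covers q.left ∧ SGA3x.IsMultTypeFT Q ∧ q ≫ j = u := by
  choose S' f hf hy M N iM iN hM hN eH eG ψ h1 h2 h3 h4 hu using fun x => exists_induced_piece hH hG u x
  haveI : ∀ x, AddGroup.FG (M x) := hM
  haveI : ∀ x, AddGroup.FG (N x) := hN
  haveI : ∀ x, IsMonHom (eH x) := h1
  haveI : ∀ x, IsIso (eH x) := h2
  haveI : ∀ x, IsMonHom (eG x) := h3
  haveI : ∀ x, IsIso (eG x) := h4
  let π : ∀ x, N x →+ (ψ x).range := fun x => (ψ x).rangeRestrict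
  have hπ : ∀ x, Function.Surjective (π x) := fun x => (ψ x).rangeRestrict_surjective
  haveI hfg : ∀ x, AddGroup.FG (ψ x).range := fun x => AddGroup.fg_of_surjective (hπ x)
  let k : ∀ x, Red.DS (S' x) (ψ x).range ⟶ Red.bc (f x) G := fun x => Red.DSmap (S' x) (π x) ≫ inv (eG x)
  have hkm : ∀ x, IsMonHom (k x) := fun x => by
    haveI := S5427.isMonHom_DSmap (S' x) (π x)
    haveI : IsMonHom (inv (eG x)) := inferInstanceAs (IsMonHom (asIso (eG x)).inv)
    exact inferInstanceAs (IsMonHom (Red.DSmap (S' x) (π x) ≫ inv (eG x)))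
  have hkc : ∀ x, IsClosedImmersion (k x).left := fun x => by
    haveI := S5427.isClosedImmersion_DSmap (S' x) (π x) (hπ x)
    haveI : IsIso (inv (eG x)).left := inferInstanceAs (IsIso ((Over.forget _).map (inv (eG x))))
    rw [Over.comp_left]
    infer_instance
  have hchar : ∀ x (Y : Over (S' x)) (y : Y ⟶ Red.bc (f x) G),
      InImg u (theta (f x) y).left ↔ ∃ l, l ≫ k x = y := fun x Y y => by
    constructor
    · rintro ⟨P, p, g1, g2, g3, e, he⟩
      haveI := g1
      haveI := g2
      haveI := g3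
      let P' : Over (S' x) := Over.mk (p ≫ Y.hom)
      let p' : P' ⟶ Y := Over.homMk p rfl
      haveI := (show FpqcDescLib.Covers p'.left from
        FpqcDescLib.covers_of_isCovering (FpqcDescLib.isCovering_of_lfp p)).over_epi
      obtain ⟨a, ha⟩ := (theta_bijective (f x)).surjective (Over.homMk e (by
        show e ≫ H.hom = (p ≫ Y.hom) ≫ f x
        rw [← Over.w u, ← Category.assoc, ← he, Category.assoc, Category.assoc, Over.w (theta (f x) y)]
        rfl) : (Over.map (f x)).obj P' ⟶ H)
      have h' : p' ≫ y = a ≫ (Over.pullback (f x)).map u := (theta_bijective (f x)).injective (by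
        rw [HomUnitLocus.theta_comp_map, ha, theta_comp]
        exact Over.OverMorphism.ext he)
      obtain ⟨l, hl⟩ := exists_fac_DSmap (π := π x) (hπ x) (y ≫ eG x) fun n hn => by
        have hn' : ψ x n = 0 := congrArg Subtype.val hn
        have h0 : p' ≫ (y ≫ eG x) ≫ Red.chi (S' x) n = p' ≫ 1 := by
          rw [MonObj.comp_one, Category.assoc, reassoc_of% h', reassoc_of% (hu x)]
          refine ev_ext fun m => ?_
          rw [ev_one, Red.chi, ← Category.assoc, ← Category.assoc, ev_DSmap, ev_DSmap, zmultiplesHom_apply,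
            map_zsmul, hn', smul_zero, ev_zero]
        rw [← gmFn_chi, (cancel_epi p').1 h0, GmPts.gmFn_one]
      exact ⟨l, by simp only [k]; rw [← Category.assoc, hl, Category.assoc, IsIso.hom_inv_id, Category.comp_id]⟩
    · rintro ⟨l, rfl⟩
      obtain ⟨hfl, hsurj⟩ := flat_surjective_DSmap (S := S' x) (ψ x).range.subtype
        (ψ x).range.subtype_injective
      haveI := lfp_DSmap (S := S' x) (ψ x).range.subtype
      haveI := hfl
      haveI := hsurj
      let q0 := Red.DSmap (S' x) (ψ x).range.subtype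
      let P' : Over (S' x) := Over.mk (pullback.fst l.left q0.left ≫ Y.hom)
      let p' : P' ⟶ Y := Over.homMk (pullback.fst l.left q0.left) rfl
      let c : P' ⟶ Red.DS (S' x) (M x) := Over.homMk (pullback.snd l.left q0.left) (by
        show pullback.snd l.left q0.left ≫ (Red.DS (S' x) (M x)).hom = pullback.fst l.left q0.left ≫ Y.hom
        rw [← Over.w q0, ← Category.assoc, ← pullback.condition, Category.assoc, Over.w l])
      refine ⟨P'.left, p'.left, inferInstanceAs (Flat (pullback.fst l.left q0.left)),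
        inferInstanceAs (Surjective (pullback.fst l.left q0.left)),
        inferInstanceAs (LocallyOfFinitePresentation (pullback.fst l.left q0.left)),
        (theta (f x) (c ≫ inv (eH x))).left, ?_⟩
      have h' : p' ≫ l ≫ k x = (c ≫ inv (eH x)) ≫ (Over.pullback (f x)).map u := by
        have hc : p' ≫ l = c ≫ q0 := Over.OverMorphism.ext pullback.condition
        rw [← cancel_mono (eG x)]
        simp only [k, Category.assoc, IsIso.inv_hom_id, Category.comp_id, hu, IsIso.inv_hom_id_assoc]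
        rw [reassoc_of% hc, DSmap_comp]
        rfl
      have h2 : (Over.map (f x)).map p' ≫ theta (f x) (l ≫ k x) = theta (f x) (c ≫ inv (eH x)) ≫ u := by
        rw [← theta_comp, ← HomUnitLocus.theta_comp_map, h']
      exact congrArg (fun z => z.left) h2
  obtain ⟨Q, iQ, j, hj, hjm, hall⟩ := exists_subgroup_of_local (fun c => InImg u c) (isLocalSubgroup_inImg u)
    S' f hf (fun x => ⟨x, hy x⟩) (fun x => Red.DS (S' x) (ψ x).range) k hkc hchar
  haveI := hj
  haveI := hjm
  obtain ⟨q, hq⟩ := (hall H u).1 ((inImg_iff u _).2 ⟨H, 𝟙 H, by rw [Over.id_left]; infer_instance,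
    by rw [Over.id_left]; infer_instance, by rw [Over.id_left]; infer_instance, 𝟙 H, rfl⟩)
  haveI : IsMonHom q :=
    { one_hom := by rw [← cancel_mono j, Category.assoc, hq, IsMonHom.one_hom, IsMonHom.one_hom]
      mul_hom := by
        rw [← cancel_mono j, Category.assoc, Category.assoc, hq, IsMonHom.mul_hom u, IsMonHom.mul_hom j,
          MonoidalCategory.tensorHom_comp_tensorHom_assoc, hq] }
  obtain ⟨P, p, g1, g2, g3, e, he⟩ := (inImg_iff u _).1 ((hall Q j).2 ⟨𝟙 Q, Category.id_comp j⟩)
  have hep : e ≫ q = p := by rw [← cancel_mono j, Category.assoc, hq, he]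
  haveI := g1
  haveI := g2
  haveI := g3
  refine ⟨Q, iQ, j, q, hj, hjm, inferInstance, ⟨P.left, e.left, ?_⟩,
    isMultTypeFT_of_pieces j (fun c => InImg u c) hall (fun x => ⟨S' x, f x, hf x, hy x,
      _, inferInstance, k x, hfg x, hkm x, hkc x, hchar x⟩), hq⟩
  rw [← Over.comp_left, hep]
  exact FpqcDescLib.isCovering_of_lfp p.left

/-- The fibres of a factorisation through a monomorphism are the cosets of the kernel. -/
theorem isCosetMap_of_mono {K Q : Over S} [GrpObj K] [GrpObj Q] (i : K ⟶ H) [IsMonHom i] (u : H ⟶ G) [IsMonHom u]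
    (hi : ∀ (Y : Over S) (h : Y ⟶ H), h ≫ u = 1 ↔ ∃ l, l ≫ i = h) (q : H ⟶ Q) (j : Q ⟶ G) [Mono j]
    (hq : q ≫ j = u) : FpqcDescLib.IsCosetMap i q := fun Y a b => by
  rw [← cancel_mono j, Category.assoc, Category.assoc, hq]
  constructor
  · intro h
    obtain ⟨l, hl⟩ := (hi Y (a⁻¹ * b)).1 (by rw [MonObj.mul_comp, GrpObj.inv_comp, h, inv_mul_cancel])
    exact ⟨l, by rw [hl, mul_inv_cancel_left]⟩
  · rintro ⟨l, rfl⟩
    rw [MonObj.mul_comp, (hi Y _).2 ⟨l, rfl⟩, _root_.mul_one]

end Groth.Agent.TorusQI
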