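import Groth.Agent.TorusQI.MaxSubtorus
import Groth.Agent.MultTypeQI.Recognize

/-!
# Subgroups given etale-locally

A predicate on points which is etale-locally represented by closed subgroups is represented by a subgroup.
-/

universe u

open CategoryTheory CategoryTheory.Limits MonoidalCategory CartesianMonoidalCategory MonObj GrpObj AlgebraicGeometry
open Groth.Agent.HomRepLib Groth.Agent.DSPtsLib Groth.Agent.GrpSchLib

namespace Groth.Agent.TorusQI

set_option backward.isDefEq.respectTransparency.types false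
set_option maxHeartbeats 400000

variable {S : Scheme.{u}} {G : Over S} [GrpObj G]

/-- Predicate on points of `G` which is stable under base change and group operations, and local. -/
structure IsLocalSubgroup (P : ∀ {T : Scheme.{u}}, (T ⟶ G.left) → Prop) : Prop where
  comp : ∀ {T T' : Scheme.{u}} {c : T ⟶ G.left} (l : T' ⟶ T), P c → P (l ≫ c)
  of_openCover : ∀ {T : Scheme.{u}} {c : T ⟶ G.left} (𝒰 : Scheme.OpenCover.{u} T), (∀ i, P (𝒰.f i ≫ c)) → P c
  of_covers : ∀ {T T' : Scheme.{u}} {c : T ⟶ G.left} (p : T' ⟶ T), Flat p → Surjective p →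
    LocallyOfFinitePresentation p → P (p ≫ c) → P c
  one : ∀ (Y : Over S), P (1 : Y ⟶ G).left
  mul : ∀ {Y : Over S} {a b : Y ⟶ G}, P a.left → P b.left → P (a * b).left
  inv : ∀ {Y : Over S} {a : Y ⟶ G}, P a.left → P a⁻¹.left

/-- A local subgroup predicate represented etale-locally by closed subgroups is represented by a subgroup. -/
theorem exists_subgroup_of_local (P : ∀ {T : Scheme.{u}}, (T ⟶ G.left) → Prop) (hP : IsLocalSubgroup P)
    {κ : Type u} (S' : κ → Scheme.{u}) (f : ∀ s, S' s ⟶ S) (hf : ∀ s, Etale (f s)) (hs : ∀ x : S, ∃ s y, f s y = x)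
    (K : ∀ s, Over (S' s)) (k : ∀ s, K s ⟶ Red.bc (f s) G) (hk : ∀ s, IsClosedImmersion (k s).left)
    (hchar : ∀ s (Y : Over (S' s)) (y : Y ⟶ Red.bc (f s) G),
      P (theta (f s) y).left ↔ ∃ l, l ≫ k s = y) :
    ∃ (T : Over S) (_ : GrpObj T) (i : T ⟶ G), IsMonHom i ∧ Mono i ∧
      ∀ (Y : Over S) (h : Y ⟶ G), P h.left ↔ ∃ l, l ≫ i = h := by
  haveI := hf
  haveI := hk
  let g : (∐ fun s => (Red.bc (f s) G).left) ⟶ G.left := Sigma.desc fun s => pullback.fst G.hom (f s)
  haveI hget : Etale g := IsZariskiLocalAtSource.sigmaDesc (P := @Etale) fun s =>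
    inferInstanceAs (Etale (pullback.fst G.hom (f s)))
  haveI : Surjective g := ⟨fun x => by
    obtain ⟨s, y, hy⟩ := hs (G.hom x)
    obtain ⟨z, hz, -⟩ := Scheme.Pullback.exists_preimage_pullback (f := G.hom) (g := f s) x y hy.symm
    exact ⟨Sigma.ι (fun s => (Red.bc (f s) G).left) s z, by
      rw [← Scheme.Hom.comp_apply, Sigma.ι_desc]; exact hz⟩⟩
  have hg : FpqcDescLib.IsCovering g := FpqcDescLib.isCovering_of_lfp g
  let j : (∐ fun s => (K s).left) ⟶ ∐ fun s => (Red.bc (f s) G).left :=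
    Limits.Sigma.map fun s => (k s).left
  haveI : IsClosedImmersion j := DescLib.prop_sigmaMap @IsClosedImmersion _ hk
  have hι : ∀ s, Sigma.ι (fun s => (K s).left) s ≫ j ≫ g = (k s).left ≫ pullback.fst G.hom (f s) := fun s => by
    rw [Sigma.ι_map_assoc, Sigma.ι_desc]
  have sharp : ∀ (T : Scheme.{u}) (a : T ⟶ ∐ fun s => (Red.bc (f s) G).left),
      (∃ l, l ≫ j = a) ↔ P (a ≫ g) := by
    refine fun T a => ⟨?_, fun ha => ?_⟩
    · rintro ⟨l, rfl⟩
      rw [Category.assoc]
      refine hP.comp l (hP.of_openCover (sigmaOpenCover _) fun s => ?_)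
      have h0 := (hchar s _ (k s)).2 ⟨𝟙 _, Category.id_comp _⟩
      rw [theta_left, ← hι] at h0
      exact h0
    · let 𝒰 := (sigmaOpenCover fun s => (Red.bc (f s) G).left).pullback₁ a
      have key : ∀ s : κ, ∃ m : pullback a (Sigma.ι (fun s => (Red.bc (f s) G).left) s) ⟶ _,
          m ≫ j = pullback.fst a (Sigma.ι (fun s => (Red.bc (f s) G).left) s) ≫ a := fun s => by
        let as := pullback.snd a (Sigma.ι (fun s => (Red.bc (f s) G).left) s)
        let Y : Over (S' s) := Over.mk (as ≫ (Red.bc (f s) G).hom)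
        let y : Y ⟶ Red.bc (f s) G := Over.homMk as rfl
        have hy : P (theta (f s) y).left := by
          rw [theta_left]
          have h1 := hP.comp (pullback.fst a (Sigma.ι (fun s => (Red.bc (f s) G).left) s)) ha
          rw [pullback.condition_assoc, Sigma.ι_desc] at h1
          exact h1
        obtain ⟨l, hl⟩ := (hchar s Y y).1 hy
        refine ⟨l.left ≫ Sigma.ι (fun s => (K s).left) s, ?_⟩
        rw [Category.assoc, Sigma.ι_map, ← Category.assoc, ← Over.comp_left, hl]
        exact pullback.condition.symm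
      exact exists_fac_of_openCover j a 𝒰 key
  obtain ⟨Z₀, i, hi, hiff⟩ := SubschemeDescent.exists_descend g hg j
    (fun T a b e ha => by rw [sharp] at ha ⊢; rwa [← e])
    (fun hpre => by rw [g.isOpenMap.preimage_closure_eq_closure_preimage g.continuous, hpre])
  haveI := hi
  let T : Over S := Over.mk (i ≫ G.hom)
  let ι' : T ⟶ G := Over.homMk i rfl
  haveI : Mono ι'.left := inferInstanceAs (Mono i)
  haveI : Mono ι' := Over.mono_of_mono_left _
  have hcov : FpqcDescLib.Covers g := FpqcDescLib.covers_of_isCovering hg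
  have hall : ∀ (Y : Over S) (h : Y ⟶ G), P h.left ↔ ∃ l, l ≫ ι' = h := by
    refine fun Y h => ⟨fun hh => ?_, ?_⟩
    · have h1 := hP.comp (pullback.fst h.left g) hh
      rw [pullback.condition] at h1
      obtain ⟨m, hm⟩ := (hiff _ _).1 ((sharp _ _).2 h1)
      obtain ⟨l, hl⟩ := exists_fac_of_covers i h.left (hcov.pullback h.left _ _ (IsPullback.of_hasPullback h.left g)) m
        (hm.trans pullback.condition.symm)
      exact ⟨Over.homMk l (by show l ≫ i ≫ G.hom = Y.hom; rw [reassoc_of% hl, Over.w h]), Over.OverMorphism.ext hl⟩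
    · rintro ⟨l, rfl⟩
      have h1 := (sharp _ _).1 ((hiff _ (pullback.snd i g)).2 ⟨pullback.fst i g, pullback.condition⟩)
      rw [← pullback.condition] at h1
      rw [Over.comp_left]
      exact hP.comp l.left (hP.of_covers (pullback.fst i g) inferInstance inferInstance inferInstance h1)
  obtain ⟨e1, he1⟩ := (hall (𝟙_ (Over S)) η[G]).1 (by
    rw [show η[G] = (1 : 𝟙_ (Over S) ⟶ G) from (by rw [Hom.one_def, toUnit_unique (toUnit _) (𝟙 _), Category.id_comp])]
    exact hP.one _)
  have hkT : ∀ (Y : Over S) (l : Y ⟶ T), P (l ≫ ι').left := fun Y l => (hall Y _).2 ⟨l, rfl⟩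
  obtain ⟨μT, hμT⟩ := (hall (T ⊗ T) _).1 (hP.mul (hkT _ (fst T T)) (hkT _ (snd T T)))
  obtain ⟨iT, hiT⟩ := (hall T ι'⁻¹).1 (hP.inv ((hall T ι').2 ⟨𝟙 _, Category.id_comp _⟩))
  obtain ⟨strT, hmon⟩ := exists_grpObj_of_mono ι' e1 he1 μT hμT iT hiT
  exact ⟨T, strT, ι', hmon, inferInstance, hall⟩

end Groth.Agent.TorusQI
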