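import Groth.Agent.TorusQI.Geom
import Groth.Agent.TorusQI.FibreIso
import Groth.Agent.TorusQI.Character
import Groth.Agent.FpqcDescLib.Group
import Groth.Agent.S5427
import Groth.Agent.S5286
import Groth.Agent.HomRepLib.ApplyFpqc
import Groth.Agent.TorusQI.MaxSubtorus

/-!
# Subgroups of multiplicative type of diagonalisable groups

Locally on the base, in open and closed pieces, they are diagonalisable.
-/

universe u

open CategoryTheory CategoryTheory.Limits MonoidalCategory CartesianMonoidalCategory MonObj GrpObj AlgebraicGeometry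
open Groth.Agent.HomRepLib Groth.Agent.DSPtsLib Groth.Agent.GrpSchLib

namespace Groth.Agent.TorusQI

set_option backward.isDefEq.respectTransparency.types false
set_option maxHeartbeats 400000

variable {S : Scheme.{u}}

/-- The points of the base change of a diagonalisable group are the points of the diagonalisable group. -/
theorem exists_bcPt {U : Scheme.{u}} (g : U ⟶ S) (M : Type) [AddCommGroup M] :
    ∃ κ : Red.DS U M ⟶ Red.bc g (Red.DS S M), IsMonHom κ ∧ IsIso κ ∧
      ∀ (Y : Over U) (z : Y ⟶ Red.DS U M) (m : M), ev (theta g (z ≫ κ)) m = ev z m := by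
  obtain ⟨x, hx⟩ := exists_ev (S := S) (X := (Over.map g).obj (Red.DS U M)) (M := M)
    { toFun := fun m => ev (S := U) (X := Red.DS U M) (𝟙 (Red.DS U M)) (Multiplicative.toAdd m)
      map_one' := ev_zero _
      map_mul' := fun a b => ev_add _ _ _ }
  obtain ⟨κ, hκ⟩ := (theta_bijective g).surjective x
  have key : ∀ (Y : Over U) (z : Y ⟶ Red.DS U M) (m : M), ev (theta g (z ≫ κ)) m = ev z m := fun Y z m => by
    conv_rhs => rw [← Category.comp_id z, ev_comp]
    rw [theta_comp, hκ, ev_comp, hx]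
    rfl
  have hinj : ∀ (Y : Over U) (a b : Y ⟶ Red.bc g (Red.DS S M)),
      (∀ m, ev (theta g a) m = ev (theta g b) m) → a = b :=
    fun Y a b h => (theta_bijective g).injective (ev_ext h)
  obtain ⟨ρ, hρ⟩ := exists_ev (S := U) (X := Red.bc g (Red.DS S M)) (M := M)
    { toFun := fun m => ev (S := S) (X := (Over.map g).obj (Red.bc g (Red.DS S M))) (theta g (𝟙 (Red.bc g (Red.DS S M)))) (Multiplicative.toAdd m)
      map_one' := ev_zero _
      map_mul' := fun a b => ev_add _ _ _ }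
  have h1 : ρ ≫ κ = 𝟙 _ := hinj _ _ _ fun m => by rw [key, hρ]; rfl
  have h2 : κ ≫ ρ = 𝟙 _ := ev_ext fun m => by
    rw [ev_comp, hρ]
    show κ.left.appTop.hom (ev (S := S) (X := (Over.map g).obj (Red.bc g (Red.DS S M))) (theta g (𝟙 (Red.bc g (Red.DS S M)))) m) = _
    rw [← key _ (𝟙 _) m, Category.id_comp]
    conv_rhs => rw [← Category.comp_id κ, theta_comp, ev_comp]
    rfl
  haveI : IsMonHom κ :=
    { one_hom := hinj _ _ _ fun m => by
        rw [key, show η[Red.DS U M] = (1 : 𝟙_ (Over U) ⟶ _) from (by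
            rw [Hom.one_def, toUnit_unique (toUnit _) (𝟙 _), Category.id_comp]), ev_one,
          show η[Red.bc g (Red.DS S M)] = (1 : 𝟙_ (Over U) ⟶ _) from (by
            rw [Hom.one_def, toUnit_unique (toUnit _) (𝟙 _), Category.id_comp]), HomUnitLocus.theta_one, ev_one]
      mul_hom := hinj _ _ _ fun m => by
        rw [key, show μ[Red.DS U M] = fst _ _ * snd _ _ from (by rw [Hom.mul_def, lift_fst_snd, Category.id_comp]),
          ev_mul, show (κ ⊗ₘ κ) ≫ μ[Red.bc g (Red.DS S M)] = (fst _ _ ≫ κ) * (snd _ _ ≫ κ) from (by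
            rw [Hom.mul_def]; congr 1), theta_mul, ev_mul, key, key] }
  exact ⟨κ, this, ⟨ρ, h2, h1⟩, key⟩

variable {M : Type} [AddCommGroup M]

/-- A subgroup of multiplicative type of a diagonalisable group is diagonalisable on an open and closed
neighbourhood of each point. -/
theorem exists_clopen_diag [AddGroup.FG M] {H : Over S} [GrpObj H] (hH : SGA3x.IsMultTypeFT H)
    (i : H ⟶ Red.DS S M) [IsMonHom i] [Mono i] (s : S) :
    ∃ (K : AddSubgroup M) (U : S.Opens), s ∈ U ∧ IsClosed (U : Set S) ∧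
      ∃ h : Red.bc U.ι H ⟶ Red.DS (U : Scheme.{u}) (M ⧸ K), IsMonHom h ∧ IsIso h ∧
        ∀ (Y : Over (U : Scheme.{u})) (y : Y ⟶ Red.bc U.ι H) (m : M),
          ev (theta U.ι y ≫ i) m = ev (y ≫ h) (QuotientAddGroup.mk' K m) := by
  classical
  let b := Red.geomPt s
  have hb : b (IsLocalRing.closedPoint (AlgebraicClosure (S.residueField s))) = s := geomPt_closedPoint s
  obtain ⟨N, iN, hN, ⟨e⟩⟩ := exists_diag_geom hH b
  obtain ⟨κ, hκm, hκi, hκ⟩ := exists_bcPt b M
  haveI : IsMonHom (inv κ) := inferInstanceAs (IsMonHom (asIso κ).inv)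
  let ei : Red.DS _ N ⟶ Red.bc b H := e.inv.hom.hom
  haveI : IsMonHom ei := e.inv.hom.isMonHom_hom
  haveI : IsIso ei := ⟨e.hom.hom.hom, congrArg (fun k => k.hom.hom) e.inv_hom_id,
    congrArg (fun k => k.hom.hom) e.hom_inv_id⟩
  let bi : Red.bc b H ⟶ Red.bc b (Red.DS S M) := (Over.pullback b).map i
  haveI : IsMonHom bi := inferInstanceAs (IsMonHom ((Over.pullback b).map i))
  haveI : Mono bi := inferInstanceAs (Mono ((Over.pullback b).map i))
  haveI : Subsingleton ↥(Spec (CommRingCat.of (AlgebraicClosure (S.residueField s)))) :=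
    inferInstanceAs (Subsingleton (PrimeSpectrum _))
  obtain ⟨ψ, hψ, hf⟩ := exists_surjective_of_mono (ei ≫ bi ≫ inv κ)
  -- the points over the geometric point
  have hval : ∀ (Y : Over _) (z : Y ⟶ Red.DS _ N) (m : M), ev (theta b (z ≫ ei) ≫ i) m = ev z (ψ m) :=
    fun Y z m => by
      have h1 : z ≫ ei ≫ bi = (z ≫ Red.DSmap _ ψ) ≫ κ := by
        rw [← hf]; simp [Category.assoc]
      rw [← HomUnitLocus.theta_comp_map, Category.assoc, show ei ≫ (Over.pullback b).map i = ei ≫ bi from rfl, h1,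
        hκ, ev_DSmap]
  let K : AddSubgroup M := ψ.ker
  haveI : Module.Finite ℤ M := Module.Finite.iff_addGroup_fg.mpr ‹_›
  obtain ⟨G, hG⟩ : (AddSubgroup.toIntSubmodule K).FG := IsNoetherian.noetherian _
  haveI : AddGroup.FG ℤ := Module.Finite.iff_addGroup_fg.1 inferInstance
  haveI := MultTypeLfp.lfp (isMultTypeFT_DS (S := S) ℤ)
  haveI : IsSeparated (Red.Gm S).hom := by
    haveI := isAffineHom_DS S ℤ
    exact inferInstanceAs (IsSeparated (Red.DS S ℤ).hom)
  -- the open and closed subsets on which a character vanishes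
  have hW : ∀ m : M, ∃ W : S.Opens, IsClosed (W : Set S) ∧ (m ∈ K → s ∈ W) ∧
      ∀ (Y : Over (W : Scheme.{u})) (y : Y ⟶ Red.bc W.ι H), ev (theta W.ι y ≫ i) m = 1 := by
    intro m
    haveI := isMonHom_chi (S := S) m
    haveI : IsMonHom (i ≫ Red.chi S m) := inferInstance
    obtain ⟨W, hWc, hmem, htriv⟩ := HomUnitLocus.main (u := i ≫ Red.chi S m) hH
      (Or.inr (inferInstanceAs (LocallyOfFiniteType (Red.DS S ℤ).hom)))
    refine ⟨W, hWc, fun hm => ?_, fun Y y => ?_⟩
    · rw [← hb, hmem, ← HomUnitLocus.triv_iff_of_field]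
      refine HomUnitLocus.triv_of_map_eq_one ?_
      rw [← cancel_epi ei]
      refine (theta_bijective b).injective ?_
      rw [HomUnitLocus.theta_comp_map, MonObj.comp_one, HomUnitLocus.theta_one, ← Category.assoc]
      refine ev_ext fun j => ?_
      rw [ev_one, Red.chi, ev_DSmap, ← Category.id_comp ei, hval, zmultiplesHom_apply, map_zsmul,
        show ψ m = 0 from hm, smul_zero, ev_zero]
    · have h1 : (Over.pullback W.ι).map (i ≫ Red.chi S m) = 1 := HomUnitLocus.map_eq_one_of_triv htriv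
      rw [← gmFn_chi, Category.assoc, ← HomUnitLocus.theta_comp_map, h1, MonObj.comp_one, HomUnitLocus.theta_one,
        GmPts.gmFn_one]
  choose W hWc hWs hWt using hW
  let U₀ : S.Opens := G.inf W
  have hU₀ : ∀ m ∈ G, U₀ ≤ W m := fun m hm => Finset.inf_le hm
  have hsU₀ : s ∈ U₀ := Finset.inf_induction (p := fun O : S.Opens => s ∈ O) trivial
    (fun _ ha _ hb => ⟨ha, hb⟩) fun m hm => hWs m (by
      show m ∈ AddSubgroup.toIntSubmodule K
      rw [← hG]
      exact Submodule.subset_span hm)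
  have hU₀c : IsClosed (U₀ : Set S) := Finset.inf_induction (p := fun O : S.Opens => IsClosed (O : Set S))
    isClosed_univ (fun _ ha _ hb => ha.inter hb) fun m _ => hWc m
  have hU₀t : ∀ (Y : Over (U₀ : Scheme.{u})) (y : Y ⟶ Red.bc U₀.ι H) (m : M), m ∈ K →
      ev (theta U₀.ι y ≫ i) m = 1 := by
    intro Y y
    let Km : AddSubgroup M :=
      { carrier := {m | ev (theta U₀.ι y ≫ i) m = 1}
        zero_mem' := ev_zero _
        add_mem' := fun {a b} ha hb => by
          show ev _ (a + b) = 1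
          rw [ev_add, show ev _ a = 1 from ha, show ev _ b = 1 from hb, _root_.one_mul]
        neg_mem' := fun {a} ha => by
          show ev _ (-a) = 1
          have h := ev_add (theta U₀.ι y ≫ i) a (-a)
          rwa [add_neg_cancel, ev_zero, show ev _ a = 1 from ha, _root_.one_mul, eq_comm] at h }
    suffices AddSubgroup.toIntSubmodule K ≤ AddSubgroup.toIntSubmodule Km from fun m hm => this hm
    rw [← hG, Submodule.span_le]
    intro m hm
    show ev (theta U₀.ι y ≫ i) m = 1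
    let ε : (Over.map (W m).ι).obj (Over.mk (Y.hom ≫ S.homOfLE (hU₀ m hm))) ≅ (Over.map U₀.ι).obj Y :=
      Over.isoMk (Iso.refl _) (by
        show 𝟙 _ ≫ Y.hom ≫ U₀.ι = (Y.hom ≫ S.homOfLE (hU₀ m hm)) ≫ (W m).ι
        rw [Category.id_comp, Category.assoc, Scheme.homOfLE_ι])
    obtain ⟨y', hy'⟩ := (theta_bijective (W m).ι).surjective (ε.hom ≫ theta U₀.ι y)
    have h := hWt m _ y'
    rw [hy', Category.assoc, ev_comp] at h
    have hi : ε.hom.left = 𝟙 _ := rfl
    rw [hi] at h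
    simpa using h
  -- the homomorphism to the candidate
  obtain ⟨κ₀, hκ₀m, hκ₀i, hκ₀⟩ := exists_bcPt U₀.ι M
  haveI : IsMonHom (inv κ₀) := inferInstanceAs (IsMonHom (asIso κ₀).inv)
  let i₀ : Red.bc U₀.ι H ⟶ Red.DS (U₀ : Scheme.{u}) M := (Over.pullback U₀.ι).map i ≫ inv κ₀
  haveI : IsMonHom ((Over.pullback U₀.ι).map i ≫ inv κ₀) := inferInstance
  have hev₀ : ∀ (Y : Over (U₀ : Scheme.{u})) (y : Y ⟶ Red.bc U₀.ι H) (m : M),
      ev (y ≫ i₀) m = ev (theta U₀.ι y ≫ i) m := fun Y y m => by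
    rw [← hκ₀, ← HomUnitLocus.theta_comp_map]
    simp [i₀]
  let π : M →+ M ⧸ K := QuotientAddGroup.mk' K
  have hπ : Function.Surjective π := QuotientAddGroup.mk'_surjective K
  haveI : AddGroup.FG (M ⧸ K) := AddGroup.fg_of_surjective hπ
  obtain ⟨h, hh⟩ : ∃ h, h ≫ Red.DSmap (U₀ : Scheme.{u}) π = i₀ := by
    obtain ⟨h, hh⟩ := exists_fac_DSmap hπ (𝟙 (Red.bc U₀.ι H) ≫ i₀) fun m hm => by
      rw [hev₀]
      exact hU₀t _ _ m ((QuotientAddGroup.eq_zero_iff m).1 hm)
    exact ⟨h, hh.trans (Category.id_comp _)⟩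
  haveI hDπ : IsMonHom (Red.DSmap (U₀ : Scheme.{u}) π) := S5427.isMonHom_DSmap _ _
  haveI : IsClosedImmersion (Red.DSmap (U₀ : Scheme.{u}) π).left := S5427.isClosedImmersion_DSmap _ π hπ
  haveI : Mono (Red.DSmap (U₀ : Scheme.{u}) π) := Over.mono_of_mono_left _
  haveI hi₀ : IsMonHom i₀ := by show IsMonHom ((Over.pullback U₀.ι).map i ≫ inv κ₀); infer_instance
  haveI : IsMonHom h :=
    { one_hom := by
        rw [← cancel_mono (Red.DSmap (U₀ : Scheme.{u}) π), Category.assoc, hh]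
        exact hi₀.one_hom.trans hDπ.one_hom.symm
      mul_hom := by
        rw [← cancel_mono (Red.DSmap (U₀ : Scheme.{u}) π), Category.assoc, Category.assoc, hh,
          hDπ.mul_hom, MonoidalCategory.tensorHom_comp_tensorHom_assoc, hh]
        exact hi₀.mul_hom }
  haveI : Mono ((Over.pullback U₀.ι).map i ≫ inv κ₀) := inferInstance
  haveI : Mono (h ≫ Red.DSmap (U₀ : Scheme.{u}) π) := by rw [hh]; exact ‹Mono ((Over.pullback U₀.ι).map i ≫ inv κ₀)›
  haveI : Mono h := mono_of_mono h (Red.DSmap (U₀ : Scheme.{u}) π)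
  have hevh : ∀ (Y : Over (U₀ : Scheme.{u})) (y : Y ⟶ Red.bc U₀.ι H) (m : M),
      ev (y ≫ h) (π m) = ev (theta U₀.ι y ≫ i) m := fun Y y m => by
    rw [← hev₀, ← hh, ← Category.assoc, ev_DSmap]
  -- it is an isomorphism over the geometric point
  have hHU := MultTypeBC.isMultTypeFT_bc U₀.ι hH
  have hQU : SGA3x.IsMultTypeFT (Red.DS (U₀ : Scheme.{u}) (M ⧸ K)) := isMultTypeFT_DS _
  obtain ⟨V, hVc, hVmem, hVff⟩ := HomSplitLocus.ff_locus (u := h) (MultTypeLib.GenMultType.of_multTypeFT hHU) hQU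
  let b' : Spec (CommRingCat.of (AlgebraicClosure (S.residueField s))) ⟶ (U₀ : Scheme.{u}) :=
    IsOpenImmersion.lift U₀.ι b (by
      rw [Scheme.Opens.range_ι]
      rintro _ ⟨z, rfl⟩
      rw [Subsingleton.elim z (IsLocalRing.closedPoint _), hb]
      exact hsU₀)
  have hb' : b' ≫ U₀.ι = b := IsOpenImmersion.lift_fac _ _ _
  haveI : IsIso ((Over.pullback b').map h) := by
    let Q' : Over _ := Red.bc b' (Red.DS (U₀ : Scheme.{u}) (M ⧸ K))
    let w := theta b' (𝟙 Q')
    let φ : M ⧸ K ≃+ N := QuotientAddGroup.quotientKerEquivOfSurjective ψ hψ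
    obtain ⟨z, hz⟩ := exists_ev (S := Spec (CommRingCat.of (AlgebraicClosure (S.residueField s)))) (X := Q') (M := N)
      { toFun := fun n => ev (S := (U₀ : Scheme.{u})) (X := (Over.map b').obj Q') w (φ.symm (Multiplicative.toAdd n))
        map_one' := by rw [toAdd_one, map_zero, ev_zero]
        map_mul' := fun a c => by rw [toAdd_mul, map_add, ev_add] }
    let ε : (Over.map U₀.ι).obj ((Over.map b').obj Q') ≅ (Over.map b).obj Q' := Over.isoMk (Iso.refl _) (by
      show 𝟙 _ ≫ Q'.hom ≫ b = (Q'.hom ≫ b') ≫ U₀.ι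
      rw [Category.id_comp, Category.assoc, hb'])
    obtain ⟨y, hy⟩ := (theta_bijective U₀.ι).surjective (ε.hom ≫ theta b (z ≫ ei))
    have hyw : y ≫ h = w := ev_ext fun q => by
      obtain ⟨m, rfl⟩ := hπ q
      rw [hevh, hy, Category.assoc, ev_comp, hval, hz]
      have hi : ε.hom.left = 𝟙 _ := rfl
      rw [hi]
      show (ConcreteCategory.hom (Scheme.Hom.appTop (𝟙 _))) (ev w (φ.symm (ψ m))) = _
      rw [show φ.symm (ψ m) = π m from φ.symm_apply_eq.2 rfl]
      simp
    obtain ⟨σ, hσ⟩ := (theta_bijective b').surjective y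
    have hsec : σ ≫ (Over.pullback b').map h = 𝟙 _ := (theta_bijective b').injective (by
      rw [HomUnitLocus.theta_comp_map, hσ, hyw])
    exact ⟨σ, by rw [← cancel_mono ((Over.pullback b').map h), Category.assoc, hsec, Category.comp_id,
      Category.id_comp], hsec⟩
  let s₀ : (U₀ : Scheme.{u}) := ⟨s, hsU₀⟩
  have hs₀ : s₀ ∈ V := by
    rw [hVmem]
    haveI : IsIso ((Over.pullback b').map h).left := Functor.map_isIso (Over.forget _) ((Over.pullback b').map h)
    have h2 := HomSplitLocus.residue_of_field (fun g => HomSplitLocal.Ff h g)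
      (fun l _ _ _ h' => HomSplitLocal.Ff.of_flat_surjective l h') b'
      (⟨inferInstance, inferInstance⟩ : HomSplitLocal.Ff h b')
    have e : b' (IsLocalRing.closedPoint _) = s₀ := by
      refine U₀.ι.isOpenEmbedding.injective ?_
      rw [← Scheme.Hom.comp_apply, hb', hb]
      rfl
    rwa [e] at h2
  let U : S.Opens := U₀.ι ''ᵁ V
  have hUle : U ≤ U₀ := U₀.ι_image_le V
  let l : (U : Scheme.{u}) ⟶ U₀ := S.homOfLE hUle
  have hl : Set.range l ⊆ (V : Set U₀) := by
    rintro _ ⟨z, rfl⟩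
    obtain ⟨v, hv, hvz⟩ := (show U.ι z ∈ (U : Set S) from z.2)
    have : l z = v := U₀.ι.isOpenEmbedding.injective (by
      rw [← Scheme.Hom.comp_apply, Scheme.homOfLE_ι]; exact hvz.symm)
    rw [this]
    exact hv
  obtain ⟨lV, hlV⟩ : ∃ lV : (U : Scheme.{u}) ⟶ V, lV ≫ V.ι = l :=
    ⟨IsOpenImmersion.lift V.ι l (by rw [Scheme.Opens.range_ι]; exact hl), IsOpenImmersion.lift_fac _ _ _⟩
  obtain ⟨κU, hκUm, hκUi, hκU⟩ := exists_bcPt l (M ⧸ K)
  haveI : IsMonHom (inv κU) := inferInstanceAs (IsMonHom (asIso κU).inv)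
  let hl' : Red.bc l (Red.bc U₀.ι H) ⟶ Red.bc l (Red.DS (U₀ : Scheme.{u}) (M ⧸ K)) := (Over.pullback l).map h
  haveI : IsMonHom hl' := inferInstanceAs (IsMonHom ((Over.pullback l).map h))
  haveI : Mono hl' := inferInstanceAs (Mono ((Over.pullback l).map h))
  haveI : IsIso hl' := by
    have hff : HomSplitLocal.Ff h l := by rw [← hlV]; exact hVff.comp lV
    have hH' := MultTypeBC.isMultTypeFT_bc l hHU
    have hQ' := MultTypeBC.isMultTypeFT_bc l hQU
    haveI : Mono hl'.left := Over.mono_left_of_mono _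
    haveI : Flat hl'.left := hff.1
    haveI : Surjective hl'.left := hff.2
    haveI : LocallyOfFinitePresentation (hl'.left ≫ (Red.bc l (Red.DS (U₀ : Scheme.{u}) (M ⧸ K))).hom) := by
      rw [Over.w]; exact MultTypeLfp.lfp hH'
    haveI := MultTypeLfp.lfp hQ'
    haveI : LocallyOfFinitePresentation hl'.left := S12442.locallyOfFinitePresentation_of_comp _ (Red.bc l _).hom
    haveI : IsOpenImmersion hl'.left := IsOpenImmersion.of_flat_of_mono _
    haveI : IsIso hl'.left := (isIso_iff_isOpenImmersion_and_epi_base _).2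
      ⟨inferInstance, (TopCat.epi_iff_surjective _).2 hl'.left.surjective⟩
    haveI : IsIso ((Over.forget _).map hl') := ‹IsIso hl'.left›
    exact isIso_of_reflects_iso hl' (Over.forget _)
  obtain ⟨e₁⟩ := MultTypeBC.bc_bc l U₀.ι H
  obtain ⟨e₂⟩ := MultTypeBC.bc_congr (S.homOfLE_ι hUle) H
  refine ⟨K, U, ⟨s₀, hs₀, rfl⟩, ?_, ?_⟩
  · exact hU₀c.isClosedEmbedding_subtypeVal.isClosedMap _ hVc
  let ε' : ∀ Y : Over (U : Scheme.{u}), (Over.map U₀.ι).obj ((Over.map l).obj Y) ≅ (Over.map U.ι).obj Y :=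
    fun Y => Over.isoMk (Iso.refl _) (by
      show 𝟙 _ ≫ Y.hom ≫ U.ι = (Y.hom ≫ l) ≫ U₀.ι
      rw [Category.id_comp, Category.assoc, Scheme.homOfLE_ι])
  obtain ⟨a, ha⟩ : ∃ a : Red.bc U.ι H ⟶ Red.bc l (Red.bc U₀.ι H),
      theta U₀.ι (theta l a) = (ε' _).hom ≫ theta U.ι (𝟙 _) := by
    obtain ⟨a₁, ha₁⟩ := (theta_bijective U₀.ι).surjective ((ε' _).hom ≫ theta U.ι (𝟙 (Red.bc U.ι H)))
    obtain ⟨a₂, ha₂⟩ := (theta_bijective l).surjective a₁
    exact ⟨a₂, by rw [ha₂, ha₁]⟩
  have haY : ∀ (Y : Over (U : Scheme.{u})) (y : Y ⟶ Red.bc U.ι H),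
      theta U₀.ι (theta l (y ≫ a)) = (ε' Y).hom ≫ theta U.ι y := fun Y y => by
    rw [theta_comp, theta_comp, ha]
    conv_rhs => rw [← Category.comp_id y, theta_comp]
    rw [← Category.assoc, ← Category.assoc]
    congr 1
  have hainj : ∀ (Y : Over (U : Scheme.{u})) (y y' : Y ⟶ Red.bc U.ι H), y ≫ a = y' ≫ a → y = y' :=
    fun Y y y' hy => (theta_bijective U.ι).injective ((cancel_epi (ε' Y).hom).1 (by rw [← haY, ← haY, hy]))
  haveI : IsMonHom a :=
    { one_hom := by
        rw [show η[Red.bc U.ι H] = (1 : 𝟙_ _ ⟶ _) from (by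
            rw [Hom.one_def, toUnit_unique (toUnit _) (𝟙 _), Category.id_comp]),
          show η[Red.bc l (Red.bc U₀.ι H)] = (1 : 𝟙_ _ ⟶ _) from (by
            rw [Hom.one_def, toUnit_unique (toUnit _) (𝟙 _), Category.id_comp])]
        refine (theta_bijective l).injective ((theta_bijective U₀.ι).injective ?_)
        rw [haY, HomUnitLocus.theta_one, HomUnitLocus.theta_one, HomUnitLocus.theta_one, MonObj.comp_one]
      mul_hom := by
        rw [show μ[Red.bc U.ι H] = fst _ _ * snd _ _ from (by rw [Hom.mul_def, lift_fst_snd, Category.id_comp]),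
          show (a ⊗ₘ a) ≫ μ[Red.bc l (Red.bc U₀.ι H)] = (fst _ _ ≫ a) * (snd _ _ ≫ a) from (by
            rw [Hom.mul_def]; congr 1)]
        refine (theta_bijective l).injective ((theta_bijective U₀.ι).injective ?_)
        rw [haY, theta_mul, theta_mul, theta_mul, haY, haY, MonObj.comp_mul] }
  haveI : IsIso a := by
    obtain ⟨y, hy⟩ := (theta_bijective U.ι).surjective ((ε' (Red.bc l (Red.bc U₀.ι H))).inv ≫ theta U₀.ι (theta l (𝟙 _)))
    have h1 : y ≫ a = 𝟙 _ := (theta_bijective l).injective ((theta_bijective U₀.ι).injective (by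
      rw [haY, hy, Iso.hom_inv_id_assoc]))
    exact ⟨y, hainj _ _ _ (by rw [Category.assoc, h1, Category.comp_id, Category.id_comp]), h1⟩
  refine ⟨a ≫ hl' ≫ inv κU, inferInstance, inferInstance, fun Y y m => ?_⟩
  have h1 : theta l (y ≫ a ≫ hl') = theta l (y ≫ a) ≫ h := by
    rw [← Category.assoc]
    exact HomUnitLocus.theta_comp_map l _ _ _
  rw [← hκU _ (y ≫ a ≫ hl' ≫ inv κU)]
  simp only [Category.assoc, IsIso.inv_hom_id, Category.comp_id]
  rw [h1, hevh, haY, Category.assoc, ev_comp (ε' Y).hom (theta U.ι y ≫ i) m]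
  have hi : (ε' Y).hom.left = 𝟙 _ := rfl
  rw [hi]
  simp

end Groth.Agent.TorusQI
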